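import Mathlib
import Cfsg.Agent.Std.TwoB

/-! O'Nan's second theorem (S3354): families of components of point stabilizers.

`G` acts faithfully and 2-transitively on `Ω`.  `C x` is the set of the simple direct factors
("components") of a non-abelian minimal normal subgroup `N x` of the stabilizer of `x`. -/

set_option autoImplicit false

namespace Cfsg.Agent.ON2

open Cfsg Subgroup MulAction Cfsg.Agent.PLocal Cfsg.Agent.PLocal.Amb Cfsg.Agent.Trm

/-- a non-abelian simple subgroup -/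
structure Smp {G : Type*} [Group G] (T : Subgroup G) : Prop where
  simple : IsSimpleGroup T
  nc : ¬ T ≤ 𝐂[T]

/-- an equivariant family of commuting simple subgroups of the point stabilizers -/
structure Pre (G : Type*) (Ω : Type*) [Group G] [MulAction G Ω] where
  /-- the components at a point -/
  C : Ω → Set (Subgroup G)
  t2 : ∀ x y x' y' : Ω, x ≠ y → x' ≠ y' → ∃ g : G, g • x = x' ∧ g • y = y'
  faith : ∀ g : G, (∀ x : Ω, g • x = x) → g = 1
  nt : ∀ x : Ω, ∃ y, y ≠ x
  ne : ∀ x, (C x).Nonempty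
  eqv : ∀ (g : G) (x : Ω), ∀ T ∈ C x, cj(g, T) ∈ C (g • x)
  fix : ∀ x, ∀ T ∈ C x, T ≤ stabilizer G x
  smp : ∀ x, ∀ T ∈ C x, Smp T
  comm : ∀ x, ∀ T ∈ C x, ∀ U ∈ C x, T ≠ U → T ≤ 𝐂[U]
  tr : ∀ x, ∀ T ∈ C x, ∀ U ∈ C x, ∃ g : G, g • x = x ∧ cj(g, T) = U

/-- the family to be refuted: at least two components at each point, trivial centralizer, and a
component has only one base point -/
structure Fam (G : Type*) (Ω : Type*) [Group G] [MulAction G Ω] extends Pre G Ω where
  two : ∀ x, ∃ T ∈ C x, ∃ U ∈ C x, T ≠ U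
  cent : ∀ x (g : G), (∀ T ∈ C x, g ∈ 𝐂[T]) → g = 1
  uniq : ∀ x y, ∀ T ∈ C x, T ∈ C y → x = y

namespace Pre

variable {G Ω : Type*} [Group G] [MulAction G Ω] (F : Pre G Ω)

/-- the product of the components at `x` -/
def N (x : Ω) : Subgroup G := ⨆ T ∈ F.C x, T

/-- `t` is an involution lying in a component at `x` -/
def I (x : Ω) (t : G) : Prop := Iv t ∧ ∃ T ∈ F.C x, t ∈ T

/-- `E` lies in a component at `x` -/
def On (E : Subgroup G) (x : Ω) : Prop := ∃ T ∈ F.C x, E ≤ T

/-- no component fixes a second point -/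
def NA : Prop := ∀ x y, y ≠ x → ∀ T ∈ F.C x, ¬ T ≤ stabilizer G y

/-- components at different points meet trivially -/
def NP : Prop := ∀ x y, x ≠ y → ∀ T ∈ F.C x, ∀ U ∈ F.C y, T ⊓ U = ⊥

/-- for all `x ≠ y` some involution in a component at `x` fixes `y` -/
def Ev : Prop := ∀ x y, x ≠ y → ∃ t, F.I x t ∧ t • y = y

/-- the top pieces (of order `m`) of the pair `x, y` -/
def Pi (m : ℕ) (x y : Ω) : Set (Subgroup G) := {E | Nat.card E = m ∧ F.On E x ∧ F.On E y}

/-- `m > 1` is the largest order of an intersection of components at different points -/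
structure Top (m : ℕ) : Prop where
  na : F.NA
  one_lt : 1 < m
  bd : ∀ x y, x ≠ y → ∀ T ∈ F.C x, ∀ U ∈ F.C y, Nat.card ↥(T ⊓ U) ≤ m
  ex : ∀ x y, x ≠ y → (F.Pi m x y).Nonempty

/-- a component contains at most one top piece of a given pair -/
def Mt (m : ℕ) : Prop := ∀ x y, x ≠ y → ∀ E ∈ F.Pi m x y, ∀ E' ∈ F.Pi m x y, ∀ T ∈ F.C x,
  E ≤ T → E' ≤ T → E = E'

end Pre

end Cfsg.Agent.ON2
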