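import Mathlib
import Cfsg.Agent.ON2.Defs

/-! O'Nan II: elementary facts on simple subgroups and families of components. -/

set_option autoImplicit false
set_option linter.unusedSectionVars false
set_option linter.unusedVariables false

namespace Cfsg.Agent.ON2

open Cfsg Subgroup MulAction Cfsg.Agent.PLocal Cfsg.Agent.PLocal.Amb Cfsg.Agent.Trm
open scoped commutatorElement

section
variable {G : Type*} [Group G] {T : Subgroup G}

/-- `M.subgroupOf T` is normal in the simple group `T` -/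
theorem Smp.eq_or (h : Smp T) {M : Subgroup G} (h1 : M ≤ T) (h2 : T ≤ 𝐍[M]) : M = ⊥ ∨ M = T := by
  have := h.simple
  exact (normal_subgroupOf' h2).eq_bot_or_eq_top.imp
    (fun e => by rwa [subgroupOf_eq_bot, disjoint_iff, inf_eq_left.2 h1] at e)
    fun e => le_antisymm h1 (subgroupOf_eq_top.1 e)

theorem Smp.ne_bot (h : Smp T) : T ≠ ⊥ := by
  rintro rfl
  exact h.nc bot_le

/-- `T ⊓ 𝐂[T]` is normalized by `T` and is not `T` -/
theorem Smp.eq_one (h : Smp T) {a : G} (ha : a ∈ T) (hc : a ∈ 𝐂[T]) : a = 1 := by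
  exact mem_bot.1 (((h.eq_or (M := T ⊓ 𝐂[T]) inf_le_left (le_normalizer_inf le_normalizer
    (le_normalizer_centralizer le_normalizer))).resolve_right
      fun e => h.nc (e.ge.trans inf_le_right)).le ⟨ha, hc⟩)

theorem Smp.conj (h : Smp T) (g : G) : Smp cj(g, T) := by
  have := h.simple
  exact ⟨(T.equivMapOfInjective _ (MulAut.conj g).injective).symm.isSimpleGroup, by
    rw [centralizer_cj, cj_le_cj_iff]; exact h.nc⟩

theorem Smp.perf (h : Smp T) : ⁅T, T⁆ = T := by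
  exact (h.eq_or (commutator_le.2 fun a ha b hb => mul_mem (mul_mem (mul_mem ha hb) (inv_mem ha))
    (inv_mem hb)) (le_normalizer_commutator le_normalizer le_normalizer)).resolve_left
      fun e => h.nc (commutator_eq_bot_iff_le_centralizer.1 e)

/-- two elements of `T` acting on `T` as `g` does are equal -/
theorem Smp.coord_eq (h : Smp T) {a b g : G} (ha : a ∈ T) (hb : b ∈ T) (h1 : a⁻¹ * g ∈ 𝐂[T])
    (h2 : b⁻¹ * g ∈ 𝐂[T]) : a = b := by
  exact inv_mul_eq_one.1 (h.eq_one (mul_mem (inv_mem ha) hb)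
    (by simpa [mul_assoc] using mul_mem h1 (inv_mem h2)))

end

namespace Pre

variable {G Ω : Type*} [Group G] [MulAction G Ω] (F : Pre G Ω)

include F in
theorem trans (x y : Ω) : ∃ g : G, g • x = y := by
  obtain ⟨x', hx⟩ := F.nt x
  obtain ⟨y', hy⟩ := F.nt y
  exact (F.t2 x x' y y' hx.symm hy.symm).imp fun _ h => h.1

include F in
theorem swap {x y : Ω} (h : x ≠ y) : ∃ g : G, g • x = y ∧ g • y = x := F.t2 x y y x h h.symm

theorem le_N {x : Ω} {T : Subgroup G} (h : T ∈ F.C x) : T ≤ F.N x := by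
  exact le_iSup₂_of_le T h le_rfl

theorem N_fix (x : Ω) : F.N x ≤ stabilizer G x := by
  exact iSup₂_le (F.fix x)

theorem N_ne_bot (x : Ω) : F.N x ≠ ⊥ := by
  obtain ⟨T, hT⟩ := F.ne x
  exact fun e => (F.smp x T hT).ne_bot (eq_bot_iff.2 ((F.le_N hT).trans e.le))

theorem cj_N (g : G) (x : Ω) : cj(g, F.N x) = F.N (g • x) := by
  have k : ∀ (g : G) (x : Ω), cj(g, F.N x) ≤ F.N (g • x) := fun g x =>
    cj_le_iff.2 (iSup₂_le fun T hT => cj_le_iff.1 (F.le_N (F.eqv g x T hT)))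
  exact le_antisymm (k g x) (le_cj_iff.2 (by simpa using k g⁻¹ (g • x)))

theorem norm_N {g : G} {x : Ω} (h : g • x = x) : g ∈ 𝐍[F.N x] := by
  exact cj_eq_iff.1 (by rw [F.cj_N, h])

theorem eqv_fix {g : G} {x : Ω} (h : g • x = x) {T : Subgroup G} (hT : T ∈ F.C x) :
    cj(g, T) ∈ F.C x := by
  have := F.eqv g x T hT
  rwa [h] at this

/-- the elements acting on `T` as an element of `T` form a subgroup containing every component at
`x` (`F.comm`) -/
theorem coord {x : Ω} {T : Subgroup G} (hT : T ∈ F.C x) {g : G} (hg : g ∈ F.N x) :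
    ∃ a ∈ T, a⁻¹ * g ∈ 𝐂[T] := by
  obtain ⟨a, ha, c, hc, rfl⟩ := (mem_sup_of_le_normalizer_right
    (le_normalizer_centralizer le_normalizer)).1 ((iSup₂_le fun U hU => by
      by_cases e : U = T
      exacts [e.le.trans le_sup_left, (F.comm x U hU T hT e).trans le_sup_right] :
        F.N x ≤ T ⊔ 𝐂[T]) hg)
  exact ⟨a, ha, by rwa [inv_mul_cancel_left]⟩

theorem N_norm {x : Ω} {T : Subgroup G} (hT : T ∈ F.C x) : F.N x ≤ 𝐍[T] := by
  refine iSup₂_le fun U hU => ?_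
  by_cases e : U = T
  exacts [e.le.trans le_normalizer, (F.comm x U hU T hT e).trans (centralizer_le_normalizer' T)]

theorem eq_of_mem {x : Ω} {T U : Subgroup G} (hT : T ∈ F.C x) (hU : U ∈ F.C x) {e : G}
    (h1 : e ∈ T) (h2 : e ∈ U) (h3 : e ≠ 1) : T = U := by
  exact by_contra fun c => h3 ((F.smp x U hU).eq_one h2 (F.comm x T hT U hU c h1))

theorem comm' {x : Ω} {T U : Subgroup G} (hT : T ∈ F.C x) (hU : U ∈ F.C x) (h : T ≠ U) {a b : G}
    (ha : a ∈ T) (hb : b ∈ U) : a * b = b * a := by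
  exact (F.comm x T hT U hU h ha b hb).symm

theorem conj {x y : Ω} {T U : Subgroup G} (hT : T ∈ F.C x) (hU : U ∈ F.C y) :
    ∃ g : G, g • x = y ∧ cj(g, T) = U := by
  obtain ⟨g, rfl⟩ := F.trans x y
  obtain ⟨k, h1, h2⟩ := F.tr _ _ (F.eqv g x T hT) U hU
  exact ⟨k * g, by rw [mul_smul, h1], by rw [cj_mul, h2]⟩

theorem card_eq {x y : Ω} {T U : Subgroup G} (hT : T ∈ F.C x) (hU : U ∈ F.C y) :
    Nat.card T = Nat.card U := by
  obtain ⟨g, -, rfl⟩ := F.conj hT hU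
  exact (card_cj g T).symm

/-- uniqueness of a decomposition of weight two.  `a * b` acts on `T` as `a ≠ 1`, so it does not
centralize `T` and `T ∈ {T', V'}`; then use `Smp.coord_eq`. -/
theorem w2 {x : Ω} {T V T' V' : Subgroup G} (hT : T ∈ F.C x) (hV : V ∈ F.C x) (hT' : T' ∈ F.C x)
    (hV' : V' ∈ F.C x) (h : T ≠ V) (h' : T' ≠ V') {a b a' b' : G} (ha : a ∈ T) (hb : b ∈ V)
    (ha' : a' ∈ T') (hb' : b' ∈ V') (a1 : a ≠ 1) (e : a * b = a' * b') :
    (T = T' ∧ a = a' ∧ b = b') ∨ (T = V' ∧ a = b' ∧ b = a') := by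
  have c := F.comm x V hV T hT h.symm hb
  have key : ∀ a' ∈ T, ∀ b' ∈ 𝐂[T], a * b = a' * b' → a = a' ∧ b = b' := fun a' ha' b' hb' e => by
    obtain rfl := (F.smp x T hT).coord_eq (g := a * b) ha ha' (by rwa [inv_mul_cancel_left])
      (by rwa [e, inv_mul_cancel_left])
    exact ⟨rfl, mul_left_cancel e⟩
  by_cases e1 : T = T'
  · subst e1
    exact .inl ⟨rfl, key a' ha' b' (F.comm x V' hV' T hT h'.symm hb') e⟩
  by_cases e2 : T = V'
  · subst e2
    exact .inr ⟨rfl, key b' hb' a' (F.comm x T' hT' T hT h' ha')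
      (e.trans (F.comm' hT' hT h' ha' hb'))⟩
  exact absurd (key 1 (one_mem _) _ (mul_mem (F.comm x T' hT' T hT (Ne.symm e1) ha')
    (F.comm x V' hV' T hT (Ne.symm e2) hb')) (by rw [e, one_mul])).1 a1

/-- A component `T` at `x` fixing `y` lies in `N y` or centralizes `B = N y ⊓ G_x`.
`T` normalizes `B` (`norm_N`), so `T ⊓ B` is `⊥` or `T` (`Smp.eq_or`); assume `⊥`.  Let `b ∈ B`,
`t ∈ T`; `c = t⁻¹ * (b t b⁻¹) ∈ B`.  If `cj(b,T) = T` then `c ∈ T ⊓ B`, so `c = 1`.  Otherwise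
`b t b⁻¹` centralizes `T`, so for `s ∈ T` the element `s c s⁻¹ c⁻¹ = s t⁻¹ s⁻¹ t` lies in `T ⊓ B`; so
`T` is abelian, which is false. -/
theorem dich {x y : Ω} {T : Subgroup G} (hT : T ∈ F.C x) (hy : T ≤ stabilizer G y) :
    T ≤ F.N y ∨ T ≤ 𝐂[F.N y ⊓ stabilizer G x] := by
  have hB : T ≤ 𝐍[F.N y ⊓ stabilizer G x] :=
    le_normalizer_inf (fun t ht => F.norm_N (hy ht)) ((F.fix x T hT).trans le_normalizer)
  refine ((F.smp x T hT).eq_or (M := T ⊓ (F.N y ⊓ stabilizer G x)) inf_le_left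
    (le_normalizer_inf le_normalizer hB)).symm.imp
      (fun e => e.ge.trans (inf_le_right.trans inf_le_left)) fun e t ht b hb => ?_
  have c : ∀ t ∈ T, t⁻¹ * (b * t * b⁻¹) ∈ F.N y ⊓ stabilizer G x := fun t ht => by
    simpa only [mul_assoc] using mul_mem (inv_conj_mem_of_mem_normalizer (hB ht) hb) (inv_mem hb)
  by_cases e1 : cj(b, T) = T
  · exact mul_inv_eq_iff_eq_mul.1 (inv_mul_eq_one.1 (mem_bot.1 (e.le (mem_inf.2
      ⟨mul_mem (inv_mem ht) (e1.le (conj_mem_cj b ht)), c t ht⟩)))).symm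
  refine absurd (fun t ht s hs => ?_) (F.smp x T hT).nc
  have c1 := F.comm x _ (F.eqv_fix hb.2 hT) T hT e1 (conj_mem_cj b ht) s hs
  have c2 := mul_mem (Amb.conj_mem_of_mem_normalizer (hB hs) (c t ht)) (inv_mem (c t ht))
  rw [show s * (t⁻¹ * (b * t * b⁻¹)) * s⁻¹ * (t⁻¹ * (b * t * b⁻¹))⁻¹ =
    s * t⁻¹ * s⁻¹ * (s * (b * t * b⁻¹)) * s⁻¹ * (b * t * b⁻¹)⁻¹ * t by group, c1,
    show s * t⁻¹ * s⁻¹ * (b * t * b⁻¹ * s) * s⁻¹ * (b * t * b⁻¹)⁻¹ * t = (s * t * s⁻¹)⁻¹ * t by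
      group] at c2
  exact mul_inv_eq_iff_eq_mul.1 (inv_mul_eq_one.1 (mem_bot.1 (e.le (mem_inf.2
    ⟨mul_mem (inv_mem (mul_mem (mul_mem hs ht) (inv_mem hs))) ht, c2⟩))))

theorem I.conj {F : Pre G Ω} {x : Ω} {t : G} (h : F.I x t) (g : G) :
    F.I (g • x) (g * t * g⁻¹) := by
  obtain ⟨h1, T, hT, h2⟩ := h
  exact ⟨h1.conj g, _, F.eqv g x T hT, conj_mem_cj g h2⟩

theorem I.fix {F : Pre G Ω} {x : Ω} {t : G} (h : F.I x t) : t • x = x := by
  obtain ⟨-, T, hT, h2⟩ := h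
  exact F.fix x T hT h2

theorem I.mem_N {F : Pre G Ω} {x : Ω} {t : G} (h : F.I x t) : t ∈ F.N x := by
  obtain ⟨-, T, hT, h2⟩ := h
  exact F.le_N hT h2

theorem On.conj {F : Pre G Ω} {x : Ω} {E : Subgroup G} (h : F.On E x) (g : G) :
    F.On cj(g, E) (g • x) := by
  obtain ⟨T, hT, h2⟩ := h
  exact ⟨_, F.eqv g x T hT, cj_mono g h2⟩

theorem On.fix {F : Pre G Ω} {x : Ω} {E : Subgroup G} (h : F.On E x) : E ≤ stabilizer G x := by
  obtain ⟨T, hT, h2⟩ := h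
  exact h2.trans (F.fix x T hT)

/-- if `g` normalizes `E` it permutes the points on `E` -/
theorem On.smul {F : Pre G Ω} {x : Ω} {E : Subgroup G} (h : F.On E x) {g : G} (hg : g ∈ 𝐍[E]) :
    F.On E (g • x) := by
  have := h.conj g
  rwa [cj_of_mem_normalizer hg] at this

theorem pi_conj {m : ℕ} {x y : Ω} {E : Subgroup G} (h : E ∈ F.Pi m x y) (g : G) :
    cj(g, E) ∈ F.Pi m (g • x) (g • y) := by
  exact ⟨(card_cj g E).trans h.1, h.2.1.conj g, h.2.2.conj g⟩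

theorem pi_symm (m : ℕ) (x y : Ω) : F.Pi m x y = F.Pi m y x := by
  exact Set.ext fun E => and_congr_right' and_comm

theorem pi_ncard (m : ℕ) {x y x' y' : Ω} (h : x ≠ y) (h' : x' ≠ y') :
    (F.Pi m x y).ncard = (F.Pi m x' y').ncard := by
  obtain ⟨g, rfl, rfl⟩ := F.t2 x y x' y' h h'
  exact Set.ncard_congr (fun E _ => cj(g, E)) (fun E hE => F.pi_conj hE g)
    (fun _ _ _ _ e => cj_inj.1 e)
    fun E hE => ⟨_, by simpa using F.pi_conj hE g⁻¹, cj_cj_inv g E⟩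

theorem Top.ne_bot {F : Pre G Ω} {m : ℕ} (h : F.Top m) {E : Subgroup G} (hE : Nat.card E = m) :
    E ≠ ⊥ := by
  rintro rfl
  exact h.one_lt.ne (card_bot.symm.trans hE)

/-- a subgroup of order `m` lying in components at two different points is their intersection -/
theorem Top.eq_inf [Finite G] {F : Pre G Ω} {m : ℕ} (h : F.Top m) {x y : Ω} (hxy : x ≠ y)
    {E T U : Subgroup G} (hE : Nat.card E = m) (hT : T ∈ F.C x) (hU : U ∈ F.C y) (h1 : E ≤ T)
    (h2 : E ≤ U) : E = T ⊓ U := by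
  exact eq_of_le_of_card_ge (le_inf h1 h2) (hE ▸ h.bd x y hxy T hT U hU)

end Pre

namespace Fam

variable {G Ω : Type*} [Group G] [MulAction G Ω] (F : Fam G Ω)

theorem norm_le {x : Ω} {T : Subgroup G} (hT : T ∈ F.C x) : 𝐍[T] ≤ stabilizer G x := by
  exact fun g hg => F.uniq _ _ T (cj_of_mem_normalizer hg ▸ F.eqv g x T hT) hT

theorem exists_ne {x : Ω} (T : Subgroup G) : ∃ U ∈ F.C x, U ≠ T := by
  obtain ⟨U, hU, V, hV, h⟩ := F.two x
  by_cases e : U = T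
  exacts [⟨V, hV, e ▸ h.symm⟩, ⟨U, hU, e⟩]

/-- from `coord` and `cent` -/
theorem exists_coord {x : Ω} {g : G} (hg : g ∈ F.N x) (h1 : g ≠ 1) :
    ∃ T ∈ F.C x, ∃ a ∈ T, a ≠ 1 ∧ a⁻¹ * g ∈ 𝐂[T] := by
  by_contra c
  refine h1 (F.cent x g fun T hT => ?_)
  obtain ⟨a, ha, h2⟩ := F.coord hT hg
  obtain rfl : a = 1 := by_contra fun e => c ⟨T, hT, a, ha, e, h2⟩
  simpa using h2

end Fam

end Cfsg.Agent.ON2
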