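import Mathlib
import Cfsg.Agent.ON2.Api

/-! O'Nan II: a component at `x` lying in `N y`, projections. -/

set_option autoImplicit false
set_option linter.unusedSectionVars false
set_option linter.unusedVariables false

namespace Cfsg.Agent.ON2

open Cfsg Subgroup MulAction Cfsg.Agent.PLocal Cfsg.Agent.PLocal.Amb Cfsg.Agent.Trm
open scoped commutatorElement

namespace Fam

variable {G Ω : Type*} [Group G] [Finite G] [MulAction G Ω] [Finite Ω] (F : Fam G Ω)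

/-- `T ⊓ 𝐂[U]` is normalized by `T` (`T ≤ N y ≤ 𝐍[U]`) and is not `T` -/
theorem proj_inj {x y : Ω} {T U : Subgroup G} (hT : T ∈ F.C x) (hN : T ≤ F.N y) (hU : U ∈ F.C y)
    (hc : ¬ T ≤ 𝐂[U]) {t : G} (ht : t ∈ T) (h : t ∈ 𝐂[U]) : t = 1 :=
  mem_bot.1 ((((F.smp x T hT).eq_or (M := T ⊓ 𝐂[U]) inf_le_left (le_normalizer_inf le_normalizer
    (le_normalizer_centralizer (hN.trans (F.N_norm hU))))).resolve_right
      fun e => hc (e.ge.trans inf_le_right)).le (mem_inf.2 ⟨ht, h⟩))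

/-- the coordinate map `T → U` (`coord`) is injective by `proj_inj`, and `|T| = |U|` -/
theorem proj_surj {x y : Ω} {T U : Subgroup G} (hT : T ∈ F.C x) (hN : T ≤ F.N y) (hU : U ∈ F.C y)
    (hc : ¬ T ≤ 𝐂[U]) {a : G} (ha : a ∈ U) : ∃ t ∈ T, a⁻¹ * t ∈ 𝐂[U] := by
  choose f f1 f2 using fun t : T => F.coord hU (hN t.2)
  obtain ⟨t, e⟩ := (Function.Injective.bijective_of_nat_card_le (f := fun t => (⟨f t, f1 t⟩ : U))
    (fun s t e => Subtype.ext (inv_mul_eq_one.1 (F.proj_inj hT hN hU hc (mul_mem (inv_mem s.2) t.2) (by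
      have := mul_mem (inv_mem (f2 s)) (f2 t)
      rw [show f s = f t from congrArg Subtype.val e] at this
      simpa [mul_assoc] using this)))) (F.card_eq hT hU).ge).2 ⟨a, ha⟩
  exact ⟨t, t.2, (show f t = a from congrArg Subtype.val e) ▸ f2 t⟩

/-- for `a, b ∈ U` take `t ∈ T`, `t' ∈ T'` acting on `U` as `a`, `b`; `t t' = t' t` acts as `a b` and as
`b a`, so `a b = b a` (`Smp.coord_eq`) -/
theorem proj_comm {x x' y : Ω} {T T' U : Subgroup G} (hT : T ∈ F.C x) (hN : T ≤ F.N y)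
    (hT' : T' ∈ F.C x') (hN' : T' ≤ F.N y) (hU : U ∈ F.C y) (hc : ¬ T ≤ 𝐂[U]) (hc' : ¬ T' ≤ 𝐂[U]) :
    ¬ T ≤ 𝐂[T'] := fun h => (F.smp y U hU).nc fun b hb a ha => by
  obtain ⟨t, ht, c⟩ := F.proj_surj hT hN hU hc ha
  obtain ⟨s, hs, d⟩ := F.proj_surj hT' hN' hU hc' hb
  have k : ∀ {a b t s}, b ∈ U → a⁻¹ * t ∈ 𝐂[U] → b⁻¹ * s ∈ 𝐂[U] → (a * b)⁻¹ * (t * s) ∈ 𝐂[U] :=
    fun hb c d => by
      simpa [mul_assoc] using mul_mem (conj_mem_cent (le_normalizer (inv_mem hb)) c) d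
  exact (F.smp y U hU).coord_eq (mul_mem ha hb) (mul_mem hb ha) (k hb c d) (h ht s hs ▸ k ha d c)

/-- `←`: `U ≤ 𝐂[T] ≤ 𝐍[T] ≤ G_x` (`norm_le`).  `→`: by `dich` (for `U` at `y`), `U` centralizes
`N x ⊓ G_y ≥ T`, or `U ≤ N x`.  In the second case `T`, `U` normalize each other, `T ⊓ U` is `⊥` (then
they commute) or `T`; if `T ≤ U` then `T = U` (`card_eq`), against `uniq`. -/
theorem diag_iff {x y : Ω} (hxy : x ≠ y) {T U : Subgroup G} (hT : T ∈ F.C x) (hN : T ≤ F.N y)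
    (hU : U ∈ F.C y) : U ≤ stabilizer G x ↔ T ≤ 𝐂[U] := by
  refine ⟨fun h => ?_, fun h => (le_centralizer_iff.1 h).trans
    ((centralizer_le_normalizer' T).trans (F.norm_le hT))⟩
  obtain k | k := F.dich hU h
  · have n1 := hN.trans (F.N_norm hU)
    obtain e | e := (F.smp x T hT).eq_or (M := T ⊓ U) inf_le_left (le_normalizer_inf le_normalizer n1)
    · exact commutator_eq_bot_iff_le_centralizer.1 (eq_bot_iff.2 (le_trans (le_inf
        (Solv.commutator_le_of_le_normalizer (k.trans (F.N_norm hT)))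
        ((commutator_comm T U).trans_le (Solv.commutator_le_of_le_normalizer n1))) e.le))
    · obtain rfl := eq_of_le_of_card_ge (e.ge.trans inf_le_right) (F.card_eq hT hU).ge
      exact (hxy (F.uniq _ _ _ hT hU)).elim
  · exact le_centralizer_iff.1 (k.trans (centralizer_anti (le_inf (F.le_N hT) (hN.trans (F.N_fix y)))))

end Fam

end Cfsg.Agent.ON2
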