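import Mathlib
import Cfsg.Agent.ON2.Diag1

/-! O'Nan II: no component at `x` lies in `N y`. -/

set_option autoImplicit false
set_option linter.unusedSectionVars false
set_option linter.unusedVariables false

namespace Cfsg.Agent.ON2

open Cfsg Subgroup MulAction Cfsg.Agent.PLocal Cfsg.Agent.PLocal.Amb Cfsg.Agent.Trm
open scoped commutatorElement

namespace Fam

variable {G Ω : Type*} [Group G] [Finite G] [MulAction G Ω] [Finite Ω] (F : Fam G Ω)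

/-- For `z = y` use `F.fix`.  Let `z ≠ y`, `k x = z`, `k y = y`, `T' = cj(k,T) ∈ C z`, `T' ≤ N y`.  Put
`S = {V ∈ C y | ¬ T ≤ 𝐂[V]}`, `S'` the same for `T'`; `S' = cj(k,·) '' S`, so `ncard S = ncard S'`.
By `diag_iff` for `T'` it is enough to refute `U ∈ S'`.
(i) `T ≤ 𝐍[T']`: for `t ∈ T`, `cj(t,T') ∈ C z` lies in `N y` and does not centralize `U` (`t` normalizes
`U`); if it is not `T'` it centralizes `T'` (`F.comm`), against `proj_comm`.
(ii) `S' ⊆ S`: if `V ∈ S'` and `T ≤ 𝐂[V]`, then for `t ∈ T`, `u ∈ T'` the element `t u t⁻¹ u⁻¹` lies in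
`T'` and in `𝐂[V]`, so is `1` (`proj_inj`); so `T ≤ 𝐂[T']`, against `proj_comm` (for `U`).  So `S' = S`.
(iii) Let `t ∈ T` act on `U` as `a` (`coord`), take `u ∈ T'` acting as `a` (`proj_surj`),
`d = t u⁻¹ ∈ N y ⊓ 𝐂[U]`.  For `v ∈ T'`, `d v d⁻¹ v⁻¹ ∈ T' ⊓ 𝐂[U]` is `1`.  For `V ∈ S'` let `d` act on
`V` as `b ∈ V`; every `c ∈ V` is the action of some `v ∈ T'`, so `b c = c b`, `b = 1`, `d ∈ 𝐂[V]`.  For
`V ∈ C y \ S'` both `t` and `u` centralize `V`.  So `d = 1` (`F.cent`), `T ≤ T'`, `T = T'`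
(`card_eq`), `x = z` (`uniq`): contradiction. -/
theorem diag_fix {x y z : Ω} (hxy : x ≠ y) {T U : Subgroup G} (hT : T ∈ F.C x) (hN : T ≤ F.N y)
    (hU : U ∈ F.C y) (hc : ¬ T ≤ 𝐂[U]) (hz : T ≤ stabilizer G z) (hzx : z ≠ x) :
    U ≤ stabilizer G z := by
  by_cases hzy : z = y
  · exact hzy ▸ F.fix y U hU
  obtain ⟨k, rfl, ky⟩ := F.t2 x y z y hxy hzy
  have hT' := F.eqv k x T hT
  have hN' : cj(k, T) ≤ F.N y := cj_le_of_mem_normalizer hN (F.norm_N ky)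
  have mp : ∀ V ∈ {V ∈ F.C y | ¬ T ≤ 𝐂[V]}, cj(k, V) ∈ {V ∈ F.C y | ¬ cj(k, T) ≤ 𝐂[V]} :=
    fun V hV => ⟨F.eqv_fix ky hV.1, by rw [centralizer_cj, cj_le_cj_iff]; exact hV.2⟩
  have le := Set.ncard_le_ncard_of_injOn _ mp (fun _ _ _ _ e => cj_inj.1 e) (Set.toFinite _)
  generalize cj(k, T) = T' at hT' hN' le
  clear mp
  refine (F.diag_iff hzy hT' hN' hU).2 (by_contra fun hc' => hzx ?_)
  have A : ∀ {V : Subgroup G} {d : G}, V ∈ F.C y → ¬ T' ≤ 𝐂[V] → d ∈ 𝐍[T'] → d ∈ 𝐂[V] →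
      d ∈ 𝐂[T'] := fun {V d} hV h d1 d2 v hv => by
    have := F.proj_inj hT' hN' hV h (t := d * v * d⁻¹ * v⁻¹)
      (mul_mem ((mem_normalizer_iff.1 d1 v).1 hv) (inv_mem hv))
      (by simpa [mul_assoc] using
        mul_mem d2 (conj_mem_cent (F.N_norm hV (hN' hv)) (inv_mem d2)))
    rw [mul_inv_eq_one, mul_inv_eq_iff_eq_mul] at this
    exact this.symm
  have n : T ≤ 𝐍[T'] := fun t ht => cj_eq_iff.1 (by_contra fun ne =>
    F.proj_comm (F.eqv_fix (hz ht) hT') (cj_le_of_mem hN' (hN ht)) hT' hN' hU (by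
      rw [← cj_of_mem_normalizer (F.N_norm hU (hN ht)), centralizer_cj, cj_le_cj_iff]
      exact hc') hc' (F.comm _ _ (F.eqv_fix (hz ht) hT') _ hT' ne))
  have e := Set.eq_of_subset_of_ncard_le (fun V hV => And.intro hV.1 fun h =>
    F.proj_comm hT hN hT' hN' hU hc hc' fun t ht => A hV.1 hV.2 (n ht) (h ht)) le (Set.toFinite _)
  have l : T ≤ T' := fun t ht => by
    obtain ⟨a, ha, c⟩ := F.coord hU (hN ht)
    obtain ⟨u, hu, c'⟩ := F.proj_surj hT' hN' hU hc' ha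
    have d := A hU hc' (mul_mem (le_normalizer (inv_mem hu)) (n ht))
      (by simpa [mul_assoc] using mul_mem (inv_mem c') c)
    refine inv_mul_eq_one.1 (F.cent y (u⁻¹ * t) fun V hV => ?_) ▸ hu
    by_cases h : T' ≤ 𝐂[V]
    · refine mul_mem (inv_mem (h hu)) ((by_contra fun h' => ?_ : T ≤ 𝐂[V]) ht)
      exact (e.ge ⟨hV, h'⟩).2 h
    obtain ⟨b, hb, f⟩ := F.coord hV (mul_mem (inv_mem (hN' hu)) (hN ht))
    generalize u⁻¹ * t = g at d f
    have k : ∀ {a b t s}, b ∈ V → a⁻¹ * t ∈ 𝐂[V] → b⁻¹ * s ∈ 𝐂[V] → (a * b)⁻¹ * (t * s) ∈ 𝐂[V] :=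
      fun hb c d => by
        simpa [mul_assoc] using mul_mem (conj_mem_cent (le_normalizer (inv_mem hb)) c) d
    have : b ∈ 𝐂[V] := fun r hr => by
      obtain ⟨v, hv, f'⟩ := F.proj_surj hT' hN' hV h hr
      exact (F.smp y V hV).coord_eq (mul_mem hr hb) (mul_mem hb hr) (k hb f' f)
        (d v hv ▸ k hr f f')
    simpa using mul_mem this f
  obtain rfl := eq_of_le_of_card_ge l (F.card_eq hT hT').ge
  exact F.uniq _ _ _ hT' hT

/-- Some `U ∈ C y` is not centralized by `T` (`F.cent`, `T ≠ ⊥`).  `A = Fix T`, `B = Fix U` (sets of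
fixed points) have the same `ncard` (`conj`); `x ∈ A`, `x ∉ B` (`diag_iff`), `A \ {x} ⊆ B`
(`diag_fix`).  So `B \ (A \ {x}) = {w}`.  Each `t ∈ T` normalizes `U`, so `t w ∈ B`; `t w ∉ A` or
`t w = w`; so `t w = w`.  Thus `w ∈ A`, `w ≠ x`: contradiction. -/
theorem diag_false {x y : Ω} (hxy : x ≠ y) {T : Subgroup G} (hT : T ∈ F.C x) : ¬ T ≤ F.N y := by
  intro hN
  obtain ⟨U, hU, hc⟩ : ∃ U ∈ F.C y, ¬ T ≤ 𝐂[U] := by
    by_contra! h
    exact (F.smp x T hT).ne_bot (eq_bot_iff.2 fun t ht => mem_bot.2 (F.cent y t fun U hU => h U hU ht))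
  have fx : ∀ {g : G} {H : Subgroup G} {w : Ω}, H ≤ stabilizer G w → cj(g, H) ≤ stabilizer G (g • w) :=
    fun {g H w} h a ha => by
      have := mem_stabilizer_iff.1 (h (mem_cj.1 ha))
      rw [mul_smul, mul_smul, inv_smul_eq_iff] at this
      exact this
  have cd : ∀ (g : G) (H : Subgroup G),
      {w : Ω | H ≤ stabilizer G w}.ncard ≤ {w : Ω | cj(g, H) ≤ stabilizer G w}.ncard := fun g H =>
    Set.ncard_le_ncard_of_injOn (g • ·) (fun w hw => fx hw)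
      (fun _ _ _ _ e => MulAction.injective g e) (Set.toFinite _)
  obtain ⟨g, -, hg⟩ := F.conj hT hU
  have e : {w : Ω | T ≤ stabilizer G w}.ncard = {w : Ω | U ≤ stabilizer G w}.ncard :=
    le_antisymm (hg ▸ cd g T) (by simpa only [← hg, cj_inv_cj] using cd g⁻¹ U)
  have e1 : {w : Ω | T ≤ stabilizer G w} \ {w : Ω | U ≤ stabilizer G w} = {x} :=
    Set.eq_singleton_iff_unique_mem.2 ⟨⟨F.fix x T hT, fun h => hc ((F.diag_iff hxy hT hN hU).1 h)⟩,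
      fun z hz => by_contra fun ne => hz.2 (F.diag_fix hxy hT hN hU hc hz.1 ne)⟩
  rw [Set.ncard_eq_ncard_iff_ncard_sdiff_eq_ncard_sdiff, e1, Set.ncard_singleton, eq_comm,
    Set.ncard_eq_one] at e
  obtain ⟨w, hw⟩ := e
  obtain ⟨⟨w1, w2⟩, w3⟩ := Set.eq_singleton_iff_unique_mem.1 hw
  refine w2 fun t ht => w3 _ ⟨cj_of_mem_normalizer (F.N_norm hU (hN ht)) ▸ fx (g := t) w1, fun h => w2 ?_⟩
  have := fx (g := t⁻¹) h
  rwa [cj_of_mem (inv_mem ht), inv_smul_smul] at this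

end Fam

end Cfsg.Agent.ON2
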