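import Mathlib
import Cfsg.Agent.ON2.Api
import Cfsg.Agent.Std.TrmFin
import Cfsg.Agent.S0227
import Cfsg.Agent.S0205
import Cfsg.Agent.Bender.CorBase
import Cfsg.Agent.Char.Burnside

/-! O'Nan II: deeper facts on simple subgroups, and dihedral groups. -/

set_option autoImplicit false
set_option linter.unusedSectionVars false
set_option linter.unusedVariables false

namespace Cfsg.Agent.ON2

open Cfsg Subgroup MulAction Cfsg.Agent.PLocal Cfsg.Agent.PLocal.Amb Cfsg.Agent.Trm
open scoped commutatorElement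

variable {G : Type*} [Group G] [Finite G] {T : Subgroup G}

omit [Finite G] in
theorem Smp.exists_nc (h : Smp T) : ∃ a b : T, a * b ≠ b * a := by
  by_contra k
  push Not at k
  exact h.nc fun a ha => mem_centralizer_iff.2 fun b hb => congrArg Subtype.val (k ⟨b, hb⟩ ⟨a, ha⟩)

omit [Finite G] in
theorem Smp.nsol (h : Smp T) : ¬ Group.IsSolvable T := fun k => by
  have := h.simple
  obtain ⟨a, b, e⟩ := h.exists_nc
  exact e (IsSimpleGroup.comm_iff_isSolvable.2 k a b)

/-- a non-abelian simple group contains a four-group (odd order theorem, Brauer-Suzuki; search the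
library: `Four`, `four_of_rank`, `Suz.TwoRank`, `Bender.centralizer_sup_of_not_twoRank`,
`Lyons.zstar`) -/
theorem Smp.four (h : Smp T) : Four T := by
  have := h.simple
  obtain ⟨x, y, h1, h2, h3, h4, h5, h6⟩ := Bender.twoRank_of_simple h.exists_nc
    (Nat.not_odd_iff_even.1 fun k => h.nsol (S0205.result k))
  exact ⟨x, x.2, y, y.2, ⟨fun e => h1 (Subtype.ext e), congrArg Subtype.val h4⟩,
    ⟨fun e => h2 (Subtype.ext e), congrArg Subtype.val h5⟩, fun e => h3 (Subtype.ext e),
    congrArg Subtype.val h6⟩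

theorem Smp.exists_iv (h : Smp T) : ∃ t ∈ T, Iv t := by
  obtain ⟨a, ha, -, -, ia, -⟩ := h.four
  exact ⟨a, ha, ia⟩

/-- `Four.exists_other` (Std/TrmFin) -/
theorem Smp.exists_other (h : Smp T) {t : G} (ht : t ∈ T) (it : Iv t) :
    ∃ v ∈ T, Iv v ∧ v ≠ t ∧ v * t = t * v := by
  exact h.four.exists_other ht it

theorem Smp.not_solvable (h : Smp T) : ¬ Group.IsSolvable T := by
  exact h.nsol

/-- the action of `T` on the cosets of the proper subgroup `H.subgroupOf T` is faithful, and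
symmetric groups of degree at most four are solvable -/
theorem Smp.five (h : Smp T) {H : Subgroup G} (hH : ¬ T ≤ H) : 5 ≤ H.relIndex T := by
  have := h.simple
  by_contra k
  rcases (H.subgroupOf T).normalCore_normal.eq_bot_or_eq_top with e | e
  · rw [normalCore_eq_ker, MonoidHom.ker_eq_bot_iff] at e
    have d := card_dvd_of_injective _ e
    rw [Nat.card_perm, ← index_eq_card] at d
    refine h.nsol (Char.isSolvable_of_card_dvd_pow_mul_pow (a := 3) (b := 1) Nat.prime_two
      Nat.prime_three _ (d.trans ?_))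
    exact Nat.factorial_dvd_factorial (n := 4) (Nat.le_of_lt_succ (not_le.1 k))
  · exact hH (subgroupOf_eq_top.1 (top_le_iff.1 (e ▸ normalCore_le _)))

theorem Smp.five_orbit (h : Smp T) {Ω : Type*} [MulAction G Ω] {y : Ω}
    (hy : ¬ T ≤ stabilizer G y) : 5 ≤ {z : Ω | ∃ g ∈ T, g • y = z}.ncard := by
  have e : {z : Ω | ∃ g ∈ T, g • y = z} = orbit T y := by
    ext z
    exact ⟨fun ⟨g, hg, e⟩ => ⟨⟨g, hg⟩, e⟩, fun ⟨g, e⟩ => ⟨g, g.2, e⟩⟩
  have e2 : stabilizer T y = (stabilizer G y).subgroupOf T := by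
    ext g
    rw [mem_subgroupOf, mem_stabilizer_iff, mem_stabilizer_iff]
    rfl
  rw [e, ← index_stabilizer, e2]
  exact h.five hy

/-- `T` does not normalize `E` (`Smp.eq_or`); apply `five` to `𝐍[E]` -/
theorem Smp.five_cj (h : Smp T) {E : Subgroup G} (h1 : E ≤ T) (h2 : E ≠ ⊥) (h3 : E ≠ T) :
    5 ≤ {E' : Subgroup G | ∃ g ∈ T, cj(g, E) = E'}.ncard := by
  let _ : MulAction G (Subgroup G) :=
    { smul := fun g E => cj(g, E), one_smul := cj_one, mul_smul := cj_mul }
  refine h.five_orbit (y := E) fun k => ?_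
  rcases h.eq_or h1 (fun g hg => cj_eq_iff.1 (k hg)) with e | e
  · exact h2 e
  · exact h3 e

/-- `U` acts on `W` by conjugation; the image lies in the group `C` of automorphisms of `W` fixing
the Sylow 2-subgroup `P` elementwise, which is solvable by `S0227.result` (a normal subgroup of odd
order of `W` is trivial: `W` is simple and has an involution).  `U` is simple and not solvable, so
the image is trivial. -/
theorem Smp.le_cent (h : Smp T) {W P : Subgroup G} (hW : Smp W) (hn : T ≤ 𝐍[W])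
    (hP : IsSyl 2 P W) (hc : T ≤ 𝐂[P]) : T ≤ 𝐂[W] := by
  have := h.simple
  have := hW.simple
  obtain ⟨S, hS⟩ := hP.exists_sylow
  let f : T →* MulAut W := W.normalizerMonoidHom.comp (inclusion hn)
  have hf : ∀ (t : T) (w : W), (f t w : G) = t * w * (t : G)⁻¹ := fun _ _ => rfl
  have sol := (S0227.result (fun N hN ho => hN.eq_bot_or_eq_top.resolve_right fun e => by
    rw [e, card_top] at ho
    exact hW.nsol (S0205.result ho)) S (fixingSubgroup (MulAut W) (S : Set W))
      fun φ => mem_fixingSubgroup_iff _).2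
  have hm : ∀ t, f t ∈ fixingSubgroup (MulAut W) (S : Set W) := fun t =>
    (mem_fixingSubgroup_iff _).2 fun s hs => Subtype.ext (by
      have k : (s : G) ∈ P := mem_subgroupOf.1 (hS ▸ hs)
      refine (hf t s).trans ?_
      rw [← mem_centralizer_iff.1 (hc t.2) _ k, mul_inv_cancel_right])
  rcases f.normal_ker.eq_bot_or_eq_top with e | e
  · exact absurd (Group.isSolvable_of_isSolvable_injective (f := f.codRestrict _ hm)
      ((MonoidHom.injective_codRestrict f _ hm).2 ((MonoidHom.ker_eq_bot_iff f).1 e))) h.nsol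
  · intro t ht
    refine mem_centralizer_iff.2 fun w hw => ?_
    have k : f ⟨t, ht⟩ = 1 := MonoidHom.mem_ker.1 (e ▸ mem_top _)
    have := hf ⟨t, ht⟩ ⟨w, hw⟩
    rw [k] at this
    exact eq_mul_inv_iff_mul_eq.1 this

omit [Finite G] in
theorem dih_mem (t s : G) : t * s ∈ closure ({t, s} : Set G) :=
  mul_mem (subset_closure (by simp)) (subset_closure (by simp))

omit [Finite G] in
theorem dih_s {t s : G} (it : Iv t) (is : Iv s) : (t * s)⁻¹ * t = s := by
  rw [mul_inv_rev, inv_mul_cancel_right, is.inv_eq]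

omit [Finite G] in
theorem dih_t {t s : G} (it : Iv t) (is : Iv s) (k : ℕ) :
    (t * s) ^ k * t * ((t * s) ^ k)⁻¹ = (t * s) ^ (2 * k) * t := by
  have e : SemiconjBy t (t * s)⁻¹ (t * s) := by
    rw [SemiconjBy, mul_inv_rev, it.inv_eq, is.inv_eq, mul_assoc]
  rw [mul_assoc, ← inv_pow, (e.pow_right k).eq, ← mul_assoc, ← pow_add, two_mul]

omit [Finite G] in
theorem dih_s' {t s : G} (it : Iv t) (is : Iv s) (k : ℕ) :
    (t * s) ^ k * s * ((t * s) ^ k)⁻¹ = (t * s)⁻¹ * (t * s) ^ (2 * k) * t := by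
  rw [mul_assoc (t * s)⁻¹, ← dih_t it is, ← mul_assoc, ← mul_assoc,
    ← ((Commute.refl (t * s)).pow_left k).inv_right.eq, mul_assoc _ _ t, dih_s it is]

/-- two involutions with a product of odd order `2 j + 1` are conjugate by `(s t) ^ (j + 1)` -/
theorem dih_odd {t s : G} (it : Iv t) (is : Iv s) (ho : Odd (orderOf (t * s))) :
    ∃ c ∈ closure ({t, s} : Set G), c * t * c⁻¹ = s := by
  obtain ⟨j, hj⟩ := ho
  refine ⟨(t * s) ^ j, pow_mem (dih_mem t s) _, ?_⟩
  have e := pow_orderOf_eq_one (t * s)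
  rw [hj, pow_succ] at e
  rw [dih_t it is, eq_inv_of_mul_eq_one_left e, dih_s it is]

/-- If `t s` has order `2 m`, take `e = (t s) ^ m`.  For `m = 2 j`, `t e = (t s)⁻ʲ t (t s)ʲ`; for
`m = 2 j + 1`, `t e = s (t s) ^ (2 j) = (t s)⁻ʲ s (t s)ʲ`; similarly for `s e` (`e = (s t) ^ m`). -/
theorem dih_even {t s : G} (it : Iv t) (is : Iv s) (ho : ¬ Odd (orderOf (t * s))) :
    ∃ e ∈ closure ({t, s} : Set G), Iv e ∧ e * t = t * e ∧ e * s = s * e ∧
      (∃ c ∈ closure ({t, s} : Set G), c * t * c⁻¹ = t * e ∨ c * s * c⁻¹ = t * e) ∧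
      (∃ c ∈ closure ({t, s} : Set G), c * s * c⁻¹ = s * e ∨ c * t * c⁻¹ = s * e) := by
  obtain ⟨m, hm⟩ := Nat.not_odd_iff_even.1 ho
  have m0 := orderOf_pos (t * s)
  have ee : (t * s) ^ m * (t * s) ^ m = 1 := by rw [← pow_add, ← hm, pow_orderOf_eq_one]
  have et : (t * s) ^ m * t = t * (t * s) ^ m := by
    have := dih_t it is m
    rw [two_mul, pow_add, ee, one_mul] at this
    exact mul_inv_eq_iff_eq_mul.1 this
  have es : (t * s) ^ m * s = s * (t * s) ^ m := by
    have k : Commute ((t * s) ^ m) ((t * s)⁻¹ * t) :=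
      Commute.mul_right ((Commute.refl (t * s)).pow_left m).inv_right et
    rwa [dih_s it is] at k
  have se : s * (t * s) ^ m = (t * s)⁻¹ * (t * s) ^ m * t := by
    rw [mul_assoc, et, ← mul_assoc, dih_s it is]
  refine ⟨(t * s) ^ m, pow_mem (dih_mem t s) _,
    ⟨pow_ne_one_of_lt_orderOf (by omega) (by omega), ee⟩, et, es, ?_⟩
  rcases Nat.even_or_odd' m with ⟨j, rfl | rfl⟩
  · exact ⟨⟨_, pow_mem (dih_mem t s) j, .inl (by rw [dih_t it is, et])⟩,
      ⟨_, pow_mem (dih_mem t s) j, .inl (by rw [dih_s' it is, se])⟩⟩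
  · refine ⟨⟨_, pow_mem (dih_mem t s) (j + 1), .inr ?_⟩, ⟨_, pow_mem (dih_mem t s) j, .inr ?_⟩⟩
    · rw [dih_s' it is, ← et, show 2 * (j + 1) = 2 * j + 1 + 1 by ring, pow_succ' _ (2 * j + 1),
        inv_mul_cancel_left]
    · rw [dih_t it is, se, pow_succ' _ (2 * j), inv_mul_cancel_left]

theorem comm_of_closure {t s c v : G} (hc : c ∈ closure ({t, s} : Set G)) (h1 : t * v = v * t)
    (h2 : s * v = v * s) : c * v = v * c := by
  refine mem_centralizer_singleton_iff.1 ((closure_le (centralizer {v})).2 ?_ hc)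
  rintro _ (rfl | rfl)
  · exact mem_centralizer_singleton_iff.2 h1
  · exact mem_centralizer_singleton_iff.2 h2

/-- if `a` and `a v` both have odd order and `v * v = 1` commutes with `a`, then `v = 1` -/
theorem eq_one_of_odd {a v : G} (h1 : Odd (orderOf a)) (h2 : Odd (orderOf (a * v)))
    (hv : v * v = 1) (hc : a * v = v * a) : v = 1 := by
  obtain ⟨k, hk⟩ := h1.mul h2
  have e1 : a ^ (2 * k + 1) = 1 := by rw [← hk, pow_mul, pow_orderOf_eq_one, one_pow]
  have e2 : (a * v) ^ (2 * k + 1) = 1 := by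
    rw [← hk, mul_comm, pow_mul, pow_orderOf_eq_one, one_pow]
  rwa [Commute.mul_pow hc, e1, one_mul, pow_succ, pow_mul, pow_two, hv, one_pow, one_mul] at e2

end Cfsg.Agent.ON2
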