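import Mathlib
import Cfsg.Agent.ON2.Smp
import Cfsg.Agent.ON2.Diag2

/-! O'Nan II: no component fixes a second point. -/

set_option autoImplicit false
set_option linter.unusedSectionVars false
set_option linter.unusedVariables false

namespace Cfsg.Agent.ON2

open Cfsg Subgroup MulAction Cfsg.Agent.PLocal Cfsg.Agent.PLocal.Amb Cfsg.Agent.Trm
open scoped commutatorElement

theorem Smp.syl_ne {G : Type*} [Group G] [Finite G] {W P : Subgroup G} (h : Smp W) (hP : IsSyl 2 P W) :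
    P ≠ ⊥ := fun e =>
  let ⟨t, ht, it⟩ := h.exists_iv
  hP.eq_bot_iff.1 e (orderOf_eq_prime ((sq t).trans it.2) it.1 ▸ W.orderOf_dvd_natCard ht)

namespace Fam

variable {G Ω : Type*} [Group G] [Finite G] [MulAction G Ω] [Finite Ω] (F : Fam G Ω)

/-- `dich` and `diag_false` -/
theorem fix_cent {x y : Ω} (hxy : x ≠ y) {T : Subgroup G} (hT : T ∈ F.C x)
    (hy : T ≤ stabilizer G y) : T ≤ 𝐂[F.N y ⊓ stabilizer G x] :=
  (F.dich hT hy).resolve_left (F.diag_false hxy hT)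

/-- Let `U ∈ C x` fix `y ≠ x`, `W ∈ C y`, `P` a Sylow 2-subgroup of `W` fixing `x`.  `U` centralizes
`P ≤ N y ⊓ G_x` (`fix_cent`), `P ≠ ⊥` (`Smp.exists_iv`); for `g ∈ U`, `cj(g,W) ∈ C y` contains `P`, so
`cj(g,W) = W` (`eq_of_mem`).  Now `Smp.le_cent`. -/
theorem syl_cent {x y : Ω} (hxy : x ≠ y) {U W P : Subgroup G} (hU : U ∈ F.C x)
    (hy : U ≤ stabilizer G y) (hW : W ∈ F.C y) (hP : IsSyl 2 P W) (hx : P ≤ stabilizer G x) :
    U ≤ 𝐂[W] := by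
  have h1 : U ≤ 𝐂[P] := (F.fix_cent hxy hU hy).trans
    (centralizer_anti (le_inf (hP.le.trans (F.le_N hW)) hx))
  obtain ⟨⟨a, ha⟩, a1⟩ := ne_bot_iff_exists_ne_one.1 ((F.smp y W hW).syl_ne hP)
  exact (F.smp x U hU).le_cent (F.smp y W hW) (fun g hg => cj_eq_iff.1 (F.eq_of_mem (F.eqv_fix (hy hg) hW) hW
    (mem_cj.2 (by rw [mul_assoc, h1 hg a ha, inv_mul_cancel_left]; exact hP.le ha)) (hP.le ha)
      fun e => a1 (Subtype.ext e))) hP h1

/-- Suppose `T ∈ C x` fixes `y ≠ x`; by `t2` every ordered pair has such a component.  Let `P` be a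
Sylow 2-subgroup of `T`, `S ≥ P` one of `G_y`, `S' = S ⊓ N y` (Sylow in `N y`, which is normalized by
`G_y`).  If `S' ≤ G_x`: for `W ∈ C y`, `S' ⊓ W` is Sylow in `W` (`N_norm`), so `T ≤ 𝐂[W]`
(`syl_cent`); so `T = ⊥` (`F.cent`): false.  Otherwise `H = S' ⊔ P` is a 2-group and
`P ≤ Q = H ⊓ G_x < H`; take `w' ∈ H ⊓ 𝐍[Q] \ Q` (`lt_inf_normalizer`), `w' = w a`, `w ∈ S'`, `a ∈ P`;
then `w ∈ N y` normalizes `Q` and `x' = w x ≠ x`.  `T' = cj(w,T) ∈ C x'` has the Sylow subgroup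
`cj(w,P) ≤ Q ≤ G_x`.  Take `U ∈ C x` fixing `x'`; `U ≤ 𝐂[T']` (`syl_cent`), so
`T' ≤ 𝐍[U] ≤ G_x` (`norm_le`), and `T'` centralizes `N x ⊓ G_{x'}` (`fix_cent`).  Let `a ∈ P`:
`a' = w⁻¹ a w ∈ Q` fixes `x`, so `a` fixes `x'` and centralizes `T'`; so `a'` centralizes `T`.
`s = a' a⁻¹ ∈ N y` (`a` normalizes `N y`) fixes `x`, so centralizes `T` (`fix_cent`).  So `a ∈ 𝐂[T]`,
`a = 1`.  `P = ⊥`: false. -/
theorem na : F.NA := by
  intro x y hxy T hT hy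
  obtain ⟨P, hP⟩ := exists_isSyl 2 T
  obtain ⟨S, hS, PS⟩ := exists_isSyl_ge hP.pgrp (hP.le.trans hy)
  have nN : stabilizer G y ≤ 𝐍[F.N y] := fun g hg => F.norm_N hg
  have hS' := hS.inf_of_le (F.N_fix y) nN
  by_cases c : S ⊓ F.N y ≤ stabilizer G x
  · exact (F.smp x T hT).ne_bot ((eq_bot_iff_forall _).2 fun t ht => F.cent y t fun W hW =>
      F.syl_cent hxy.symm hT hy hW (hS'.inf_of_le (F.le_N hW) (F.N_norm hW)) (inf_le_left.trans c) ht)
  have PQ : P ≤ (S ⊓ F.N y ⊔ P) ⊓ stabilizer G x := le_inf le_sup_right (hP.le.trans (F.fix x T hT))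
  obtain ⟨w', ⟨h1, h2⟩, h3⟩ := SetLike.exists_of_lt (Amb.lt_inf_normalizer (hS.pgrp.to_le (sup_le inf_le_left PS))
    (inf_lt_left.2 fun k => c (le_sup_left.trans k)))
  obtain ⟨w, hw, b, hb, rfl⟩ := (mem_sup_of_le_normalizer_left (Amb.le_normalizer_inf (PS.trans le_normalizer)
    ((hP.le.trans hy).trans nN))).1 h1
  replace h2 := (mul_mem_cancel_right (le_normalizer (PQ hb))).1 h2
  have hx' : x ≠ w • x := fun e => h3 (mul_mem ⟨mem_sup_left hw, e.symm⟩ (PQ hb))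
  obtain ⟨g, g1, g2⟩ := F.t2 x y x _ hxy.symm hx'
  have hU := F.eqv_fix g1 hT
  have hT' := F.eqv w x T hT
  have k1 := F.fix_cent hx'.symm hT' ((le_centralizer_iff.1 (F.syl_cent hx' hU
    (cj_le_iff_forall.2 fun t ht => by simp [← g2, mul_smul, mem_stabilizer_iff.1 (hy ht)]) hT' (hP.cj w)
    ((cj_le_of_mem_normalizer PQ h2).trans inf_le_right))).trans
      ((centralizer_le_normalizer' _).trans (F.norm_le hU)))
  refine (F.smp x T hT).syl_ne hP ((eq_bot_iff_forall _).2 fun a ha => (F.smp x T hT).eq_one (hP.le ha) ?_)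
  have k2 := (Amb.inv_conj_mem_of_mem_normalizer h2 (PQ ha)).2
  have k3 : w⁻¹ * a * w ∈ 𝐂[T] := fun t ht => by
    have := k1 (conj_mem_cj w ht) a ⟨F.le_N hT (hP.le ha), by
      have := mem_stabilizer_iff.1 k2
      rwa [mul_smul, mul_smul, inv_smul_eq_iff] at this⟩
    calc t * (w⁻¹ * a * w) = w⁻¹ * (w * t * w⁻¹ * a) * w := by group
      _ = _ := by rw [← this]; group
  have k4 : w⁻¹ * a * w * a⁻¹ ∈ 𝐂[T] := le_centralizer_iff.1 (F.fix_cent hxy.symm hT hy) ⟨by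
    rw [mul_assoc, mul_assoc, ← mul_assoc a]
    exact (F.N y).mul_mem (inv_mem hw.2) (Amb.conj_mem_of_mem_normalizer (nN (hy (hP.le ha))) hw.2),
    (stabilizer G x).mul_mem k2 (inv_mem (PQ ha).2)⟩
  exact inv_mem_iff.1 ((mul_mem_cancel_left k3).1 k4)

end Fam

end Cfsg.Agent.ON2
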