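import Mathlib
import Cfsg.Agent.ON2.Defs

/-! O'Nan II: the line lemma. -/

set_option autoImplicit false
set_option linter.unusedSectionVars false
set_option linter.unusedVariables false

namespace Cfsg.Agent.ON2

open Cfsg Subgroup MulAction Cfsg.Agent.PLocal Cfsg.Agent.PLocal.Amb Cfsg.Agent.Trm
open scoped commutatorElement

/-- Put `D u v = Φ u ∩ Φ v`, `L u v = {z | D u v ⊆ Φ z}`.
(0) For `u ≠ v`, `u' ≠ v'` take `k` with `k u = u'`, `k v = v'` (`t2`); `φ k` maps `D u v` injectively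
into `D u' v'`; by symmetry all `D u v` (`u ≠ v`) have the same `ncard`, and `φ k '' D u v = D u' v'`.
(a) If `z ≠ w` lie in `L u v` (`u ≠ v`), then `D u v ⊆ D z w`, so `D z w = D u v`.
(b) Let `z ∉ L x y` (so `z ≠ x, y`) and suppose `g z ≠ z`.  `z, g z ∈ L x z ∩ L y z` (`h1`, `h2`), so
`D x z = D z (g z) = D y z ⊆ D x y`, hence `D x y = D x z ⊆ Φ z`: contradiction.  So `g z = z`.
(c) Let `z' ∈ L x y`, `z' ≠ x, y`.  Take `z ∉ L x y` (`hall` applied to an element of `D x y`), `k` with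
`k x = z`, `k y = z'`, and `w = k z'`.  `D z z' = φ k '' D x y ⊆ Φ w`, so `w ∈ L z z'`, `w ≠ z, z'`.
`w ∉ L x y` (else `D x y = D z' w = D z z' ⊆ Φ z` by (a)).  So `g` fixes `z, w` by (b), and
`D z z' = D z w = φ g '' D z w ⊆ Φ (g z')`.  Also `D x y = D x z' ⊆ Φ (g z')` (`h1`).  If `g z' ≠ z'`
then `D x y = D z' (g z') = D z z' ⊆ Φ z`: contradiction. -/
theorem line_fix {G Ω X : Type*} [Group G] [MulAction G Ω] [Finite X]
    (t2 : ∀ x y x' y' : Ω, x ≠ y → x' ≠ y' → ∃ g : G, g • x = x' ∧ g • y = y')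
    (Φ : Ω → Set X) (φ : G → X → X) (inj : ∀ g, Function.Injective (φ g))
    (eqv : ∀ (g : G) (x : Ω), ∀ a ∈ Φ x, φ g a ∈ Φ (g • x)) (hall : ∀ a, ∃ z, a ∉ Φ z)
    {x y : Ω} (hxy : x ≠ y) (hne : (Φ x ∩ Φ y).Nonempty) {g : G} (gx : g • x = x) (gy : g • y = y)
    (h1 : ∀ z, z ≠ x → Φ x ∩ Φ z ⊆ Φ (g • z)) (h2 : ∀ z, z ≠ y → Φ y ∩ Φ z ⊆ Φ (g • z)) (z : Ω) :
    g • z = z := by
  have im : ∀ (k : G) (u v : Ω), φ k '' (Φ u ∩ Φ v) ⊆ Φ (k • u) ∩ Φ (k • v) := by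
    rintro k u v _ ⟨c, hc, rfl⟩
    exact ⟨eqv k u c hc.1, eqv k v c hc.2⟩
  have cd : ∀ {u v u' v' : Ω}, u ≠ v → u' ≠ v' → (Φ u ∩ Φ v).ncard ≤ (Φ u' ∩ Φ v').ncard := fun h h' => by
    obtain ⟨k, rfl, rfl⟩ := t2 _ _ _ _ h h'
    exact (Set.ncard_image_of_injective _ (inj k)).ge.trans (Set.ncard_le_ncard (im k _ _))
  have ie : ∀ (k : G) {u v : Ω}, u ≠ v → φ k '' (Φ u ∩ Φ v) = Φ (k • u) ∩ Φ (k • v) := fun k u v h =>
    Set.eq_of_subset_of_ncard_le (im k u v) ((cd ((MulAction.injective k).ne h) h).trans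
      (Set.ncard_image_of_injective _ (inj k)).ge)
  have ha : ∀ {u v z w : Ω}, u ≠ v → z ≠ w → Φ u ∩ Φ v ⊆ Φ z → Φ u ∩ Φ v ⊆ Φ w → Φ u ∩ Φ v = Φ z ∩ Φ w :=
    fun h h' k k' => Set.eq_of_subset_of_ncard_le (Set.subset_inter k k') (cd h' h)
  have hb : ∀ z, ¬ Φ x ∩ Φ y ⊆ Φ z → g • z = z := fun z hz => by_contra fun ne => by
    have zx : z ≠ x := fun e => hz (e ▸ Set.inter_subset_left)
    have zy : z ≠ y := fun e => hz (e ▸ Set.inter_subset_right)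
    have e := (ha zx.symm (Ne.symm ne) Set.inter_subset_right (h1 z zx)).trans
      (ha zy.symm (Ne.symm ne) Set.inter_subset_right (h2 z zy)).symm
    exact hz ((ha zx.symm hxy Set.inter_subset_left (e.subset.trans Set.inter_subset_left)).superset.trans
      Set.inter_subset_right)
  by_cases hz : Φ x ∩ Φ y ⊆ Φ z
  swap
  · exact hb z hz
  by_cases zx : z = x
  · rwa [zx]
  by_cases zy : z = y
  · rwa [zy]
  obtain ⟨a, hxa⟩ := hne
  obtain ⟨v, hv⟩ := hall a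
  have nv : ¬ Φ x ∩ Φ y ⊆ Φ v := fun e => hv (e hxa)
  have vz : v ≠ z := fun e => nv (e ▸ hz)
  obtain ⟨k, k1, k2⟩ := t2 x y v z hxy vz
  have wv : v ≠ k • z := k1 ▸ (MulAction.injective k).ne (Ne.symm zx)
  have wz : z ≠ k • z := fun e => zy (MulAction.injective k (e.symm.trans k2.symm))
  have hw : Φ v ∩ Φ z ⊆ Φ (k • z) := by
    have := ie k hxy
    rw [k1, k2] at this
    rw [← this]
    rintro _ ⟨c, hc, rfl⟩
    exact eqv k z c (hz hc)
  have gw := hb (k • z) fun e => nv (((ha hxy wz hz e).trans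
    (ha vz wz Set.inter_subset_right hw).symm).subset.trans Set.inter_subset_left)
  have e1 := ha vz wv Set.inter_subset_left hw
  have e2 : Φ v ∩ Φ z ⊆ Φ (g • z) := by
    have := ie g wv
    rw [hb v nv, gw, ← e1] at this
    rw [← this]
    rintro _ ⟨c, hc, rfl⟩
    exact eqv g z c hc.2
  by_contra ne
  exact nv (((ha hxy (Ne.symm ne) hz ((ha hxy (Ne.symm zx) Set.inter_subset_left hz).subset.trans
    (h1 z zx))).trans (ha vz (Ne.symm ne) Set.inter_subset_right e2).symm).subset.trans Set.inter_subset_left)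

/-- If `g ∈ 𝐍[P]` moves `a`, then for `y ≠ a` take `h` with `h a = a`, `h (g a) = y`; `h g` normalizes
`P`, so `P = cj(h g, P)` fixes `y`.  So `P` fixes every point. -/
theorem norm_eq {G Ω : Type*} [Group G] [MulAction G Ω]
    (t2 : ∀ x y x' y' : Ω, x ≠ y → x' ≠ y' → ∃ g : G, g • x = x' ∧ g • y = y')
    (faith : ∀ g : G, (∀ x : Ω, g • x = x) → g = 1) {a : Ω} {P : Subgroup G} (h0 : P ≠ ⊥)
    (h1 : P ≤ stabilizer G a) (h2 : stabilizer G a ≤ 𝐍[P]) : 𝐍[P] = stabilizer G a := by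
  refine le_antisymm (fun g hg => by_contra fun ne => h0 (eq_bot_iff.2 fun p hp => faith p fun y => ?_)) h2
  by_cases e : y = a
  · rw [e]; exact h1 hp
  obtain ⟨h, e1, e2⟩ := t2 a (g • a) a y (Ne.symm ne) (Ne.symm e)
  have := mem_stabilizer_iff.1 (h1 (inv_conj_mem_of_mem_normalizer (mul_mem (h2 e1) hg) hp))
  rwa [mul_smul, mul_smul, inv_smul_eq_iff, mul_smul, e2] at this

end Cfsg.Agent.ON2
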