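import Mathlib
import Cfsg.Agent.ON2.Smp

/-! O'Nan II: a component contains at most one top piece of a pair. -/

set_option autoImplicit false
set_option linter.unusedSectionVars false
set_option linter.unusedVariables false

namespace Cfsg.Agent.ON2

open Cfsg Subgroup MulAction Cfsg.Agent.PLocal Cfsg.Agent.PLocal.Amb Cfsg.Agent.Trm
open scoped commutatorElement

theorem pc2_le_cj {G : Type*} [Group G] {E T U : Subgroup G} {g : G} (hg : g ∈ 𝐂[U])
    (hU : E ≤ U) (hT : E ≤ T) : E ≤ cj(g, T) := by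
  intro e he
  rw [mem_cj]
  have h1 : e * g = g * e := mem_centralizer_iff.1 hg e (hU he)
  rw [mul_assoc, h1, inv_mul_cancel_left]
  exact hT he

namespace Fam

variable {G Ω : Type*} [Group G] [Finite G] [MulAction G Ω] [Finite Ω] (F : Fam G Ω)

/-- Let `E ≠ E'` in `Pi m x y` lie in `T ∈ C x`, `E ≤ U`, `E' ≤ U'` with `U, U' ∈ C y`.  Then
`E = T ⊓ U`, `E' = T ⊓ U'` (`Top.eq_inf`), so `U ≠ U'`.  If `V ∈ C y` is a third component, take
`g ∈ V` with `g x ≠ x` (`h.na`); `g` centralizes `E, E'`, so `E, E' ≤ cj(g,T) ∈ C (g x)` and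
`E = T ⊓ cj(g,T) = E'`: false. -/
theorem nm_two {m : ℕ} (h : F.Top m) {x y : Ω} (hxy : x ≠ y) {E E' T : Subgroup G}
    (hE : E ∈ F.Pi m x y) (hE' : E' ∈ F.Pi m x y) (hT : T ∈ F.C x) (h1 : E ≤ T) (h2 : E' ≤ T)
    (hne : E ≠ E') : ∃ U U', U ≠ U' ∧ F.C y = {U, U'} ∧ E = T ⊓ U ∧ E' = T ⊓ U' := by
  obtain ⟨hc, -, U, hU, hEU⟩ := hE
  obtain ⟨hc', -, U', hU', hEU'⟩ := hE'
  have e1 := h.eq_inf hxy hc hT hU h1 hEU
  have e2 := h.eq_inf hxy hc' hT hU' h2 hEU'
  refine ⟨U, U', fun e => hne (by rw [e1, e2, e]), ?_, e1, e2⟩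
  ext V
  simp only [Set.mem_insert_iff, Set.mem_singleton_iff]
  refine ⟨fun hV => ?_, fun hV => hV.elim (fun e => e ▸ hU) fun e => e ▸ hU'⟩
  by_contra hn
  rw [not_or] at hn
  obtain ⟨g, hg, hgx⟩ := SetLike.not_le_iff_exists.1 (h.na y x hxy V hV)
  have hx : x ≠ g • x := fun e => hgx (mem_stabilizer_iff.2 e.symm)
  have hT' := F.eqv g x T hT
  apply hne
  rw [h.eq_inf hx hc hT hT' h1 (pc2_le_cj (F.comm y V hV U hU hn.1 hg) hEU h1),
    h.eq_inf hx hc' hT hT' h2 (pc2_le_cj (F.comm y V hV U' hU' hn.2 hg) hEU' h2)]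

/-- Suppose not.  By `nm_two` and `t2` (`pi_conj`): every point has exactly two components; fix `y`
with `C y = {U, U'}`; for every `x ≠ y` there is `T ∈ C x` with `|T ⊓ U| = |T ⊓ U'| = m`.  For
`x, y' ≠ y` let `r x y'` say: there are `T ∈ C x` and `W ≠ W'` in `C y'` with `|U ⊓ W| = m`,
`|U' ⊓ W'| = m`, `U ⊓ W ≤ T`, `U' ⊓ W' ≤ T`.
Each `x ≠ y` has at least four `y'`: let `V ≠ T` be a component at `x` (`exists_ne`); `V` moves `y`, its
orbit has `≥ 5` points (`Smp.five_orbit`); for `y' = g y ≠ y`, `g ∈ V`, take `W = cj(g,U)`,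
`W' = cj(g,U')`: `g` centralizes `T`, so `T ⊓ U ≤ W`, and `U ⊓ W = T ⊓ U` (`Top.eq_inf`), same for `U'`.
Each `y' ≠ y` has at most two `x`: `W ∈ C y'` determines `W'`, and if `x ≠ x₁` give the same `W` then
`U ⊓ W = T ⊓ T₁ = U' ⊓ W'` (`Top.eq_inf`) is a non-trivial subgroup of `U ⊓ U'` (`eq_of_mem`): false.
`Finset.card_mul_le_card_mul` gives `4 (n-1) ≤ 2 (n-1)` with `n - 1 > 0` (`nt`). -/
theorem mt {m : ℕ} (h : F.Top m) : F.Mt m := by
  classical
  intro x0 y hxy E hE E' hE' T0 hT0 h1 h2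
  by_contra hne
  obtain ⟨U, U', hUU, hC, e1, e2⟩ := F.nm_two h hxy hE hE' hT0 h1 h2 hne
  have hU : U ∈ F.C y := by rw [hC]; exact Or.inl rfl
  have hU' : U' ∈ F.C y := by rw [hC]; exact Or.inr rfl
  have memC : ∀ W ∈ F.C y, W = U ∨ W = U' := by
    intro W hW
    rw [hC] at hW
    exact hW
  have c1 : Nat.card ↥(T0 ⊓ U) = m := e1 ▸ hE.1
  have c2 : Nat.card ↥(T0 ⊓ U') = m := e2 ▸ hE'.1
  -- every `x ≠ y` looks like `x0`
  have hA : ∀ x, x ≠ y → ∃ T ∈ F.C x, Nat.card ↥(T ⊓ U) = m ∧ Nat.card ↥(T ⊓ U') = m := by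
    intro x hx
    obtain ⟨g, hg1, hg2⟩ := F.t2 x0 y x y hxy hx
    have d1 : Nat.card ↥(cj(g, T0) ⊓ cj(g, U)) = m := by rw [← cj_inf, card_cj, c1]
    have d2 : Nat.card ↥(cj(g, T0) ⊓ cj(g, U')) = m := by rw [← cj_inf, card_cj, c2]
    have hd : cj(g, U) ≠ cj(g, U') := fun e => hUU (cj_inj.1 e)
    refine ⟨cj(g, T0), hg1 ▸ F.eqv g x0 T0 hT0, ?_⟩
    rcases memC _ (F.eqv_fix hg2 hU) with a | a <;> rcases memC _ (F.eqv_fix hg2 hU') with b | b
    · exact absurd (a.trans b.symm) hd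
    · rw [a] at d1; rw [b] at d2; exact ⟨d1, d2⟩
    · rw [a] at d1; rw [b] at d2; exact ⟨d2, d1⟩
    · exact absurd (a.trans b.symm) hd
  -- every point has at most two components
  have hB : ∀ z, ∃ A B : Subgroup G, ∀ W ∈ F.C z, W = A ∨ W = B := by
    intro z
    obtain ⟨g, hg⟩ := F.trans z y
    refine ⟨cj(g⁻¹, U), cj(g⁻¹, U'), fun W hW => ?_⟩
    rcases memC _ (hg ▸ F.eqv g z W hW) with a | a
    · left; rw [← a, cj_inv_cj]
    · right; rw [← a, cj_inv_cj]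
  let R : Ω → Ω → Subgroup G → Prop := fun x z W => ∃ T ∈ F.C x, W ∈ F.C z ∧ ∃ W' ∈ F.C z,
    W ≠ W' ∧ Nat.card ↥(U ⊓ W) = m ∧ Nat.card ↥(U' ⊓ W') = m ∧ U ⊓ W ≤ T ∧ U' ⊓ W' ≤ T
  let r : Ω → Ω → Prop := fun x z => ∃ W, R x z W
  have := Fintype.ofFinite Ω
  have key := Finset.card_mul_le_card_mul r (s := Finset.univ.erase y) (t := Finset.univ.erase y)
    (m := 4) (n := 2) ?_ ?_
  · obtain ⟨z, hz⟩ := F.nt y
    have : 0 < (Finset.univ.erase y).card := Finset.card_pos.2 ⟨z, by simp [hz]⟩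
    omega
  · intro x hx
    have hx : x ≠ y := (Finset.mem_erase.1 hx).1
    obtain ⟨T, hT, d1, d2⟩ := hA x hx
    obtain ⟨V, hV, hVT⟩ := F.exists_ne (x := x) T
    have h5 := (F.smp x V hV).five_orbit (h.na x y hx.symm V hV)
    have hs : {z : Ω | ∃ g ∈ V, g • y = z} ⊆
        insert y ↑((Finset.univ.erase y).bipartiteAbove r x) := by
      rintro z ⟨g, hg, rfl⟩
      by_cases hz : g • y = y
      · exact Or.inl hz
      right
      rw [Finset.mem_coe, Finset.mem_bipartiteAbove]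
      refine ⟨by simp [hz], cj(g, U), T, hT, F.eqv g y U hU, cj(g, U'), F.eqv g y U' hU',
        fun e => hUU (cj_inj.1 e), ?_⟩
      have hc : g ∈ 𝐂[T] := F.comm x V hV T hT hVT hg
      have f1 : T ⊓ U = U ⊓ cj(g, U) := h.eq_inf (Ne.symm hz) d1 hU (F.eqv g y U hU) inf_le_right
        (pc2_le_cj hc inf_le_left inf_le_right)
      have f2 : T ⊓ U' = U' ⊓ cj(g, U') := h.eq_inf (Ne.symm hz) d2 hU' (F.eqv g y U' hU')
        inf_le_right (pc2_le_cj hc inf_le_left inf_le_right)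
      rw [← f1, ← f2]
      exact ⟨d1, d2, inf_le_left, inf_le_left⟩
    have h6 := Set.ncard_le_ncard hs
    have h7 := Set.ncard_insert_le y (↑((Finset.univ.erase y).bipartiteAbove r x) : Set Ω)
    rw [Set.ncard_coe_finset] at h7
    omega
  · intro z hz
    obtain ⟨A, B, hAB⟩ := hB z
    let f : Ω → Subgroup G := fun x => if hx : r x z then hx.choose else ⊥
    have hf : ∀ x, r x z → R x z (f x) := by
      intro x hx
      simp only [f, dif_pos hx]
      exact hx.choose_spec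
    refine le_trans (Finset.card_le_card_of_injOn f (t := {A, B}) ?_ ?_) Finset.card_le_two
    · intro x hx
      obtain ⟨T, -, hW, -⟩ := hf x (Finset.mem_bipartiteBelow _ |>.1 (Finset.mem_coe.1 hx)).2
      simpa using hAB _ hW
    · intro x hx x1 hx1 e
      obtain ⟨T, hT, hW, W', hW', n1, d1, d2, l1, l2⟩ :=
        hf x (Finset.mem_bipartiteBelow _ |>.1 (Finset.mem_coe.1 hx)).2
      obtain ⟨T1, hT1, -, W1, hW1, n2, -, -, l3, l4⟩ :=
        hf x1 (Finset.mem_bipartiteBelow _ |>.1 (Finset.mem_coe.1 hx1)).2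
      rw [← e] at n2 l3
      have hw : W1 = W' := by
        rcases hAB _ hW with a | a <;> rcases hAB _ hW' with b | b <;>
          rcases hAB _ hW1 with c | c <;>
          first
          | exact c.trans b.symm
          | exact absurd (a.trans b.symm) n1
          | exact absurd (a.trans c.symm) n2
      rw [hw] at l4
      by_contra hxx
      have f1 := h.eq_inf hxx d1 hT hT1 l1 l3
      have f2 := h.eq_inf hxx d2 hT hT1 l2 l4
      obtain ⟨⟨a, ha⟩, ha1⟩ := (Subgroup.ne_bot_iff_exists_ne_one).1 (h.ne_bot d1)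
      have ha' : a ∈ U' ⊓ W' := by rw [f2, ← f1]; exact ha
      exact hUU (F.eq_of_mem hU hU' ha.1 ha'.1 fun e => ha1 (Subtype.ext e))

end Fam

end Cfsg.Agent.ON2
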