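import Mathlib
import Cfsg.Agent.ON2.Pc2

/-! O'Nan II: a pair has only one top piece. -/

set_option autoImplicit false
set_option linter.unusedSectionVars false
set_option linter.unusedVariables false

namespace Cfsg.Agent.ON2

open Cfsg Subgroup MulAction Cfsg.Agent.PLocal Cfsg.Agent.PLocal.Amb Cfsg.Agent.Trm
open scoped commutatorElement

theorem pcm_lb {α β : Type*} [Finite α] [Finite β] {s : Set α} {t : Set β} (f : α → β)
    (hf : ∀ a ∈ s, f a ∈ t) {n : ℕ} (hn : ∀ b ∈ t, n ≤ {a | a ∈ s ∧ f a = b}.ncard) :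
    n * t.ncard ≤ s.ncard := by
  classical
  rw [Set.ncard_eq_toFinset_card s, Set.ncard_eq_toFinset_card t]
  refine Finset.mul_card_image_le_card_of_maps_to (f := f) (by simpa using hf) n fun b hb => ?_
  refine (hn b (by simpa using hb)).trans_eq ?_
  rw [← Set.ncard_coe_finset]
  congr 1
  ext a; simp

theorem pcm_ub {α β : Type*} [Finite α] [Finite β] {s : Set α} {t : Set β} (f : α → β)
    (hf : ∀ a ∈ s, f a ∈ t) {n : ℕ} (hn : ∀ b ∈ t, {a | a ∈ s ∧ f a = b}.ncard ≤ n) :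
    s.ncard ≤ n * t.ncard := by
  classical
  rw [Set.ncard_eq_toFinset_card s, Set.ncard_eq_toFinset_card t]
  refine Finset.card_le_mul_card_image_of_maps_to (f := f) (by simpa using hf) n fun b hb => ?_
  refine le_trans (le_of_eq ?_) (hn b (by simpa using hb))
  rw [← Set.ncard_coe_finset]
  congr 1
  ext a; simp

theorem pcm_one {α : Type*} [Finite α] {s p : Set α} (hs : s.Nonempty) (hp : p ⊆ s)
    (h : s.ncard ≤ p.ncard + 1) : ∃ c ∈ s, ∀ a ∈ s, a ≠ c → a ∈ p := by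
  by_cases e : (s \ p).Nonempty
  · obtain ⟨c, hc⟩ := e
    refine ⟨c, hc.1, fun a ha k => by_contra fun k' => k ?_⟩
    exact (Set.ncard_le_one_iff (s := s \ p)).1 (by rw [Set.ncard_sdiff hp]; omega) ⟨ha, k'⟩ hc
  · obtain ⟨c, hc⟩ := hs
    exact ⟨c, hc, fun a ha _ => by_contra fun k => e ⟨a, ha, k⟩⟩

namespace Fam

variable {G Ω : Type*} [Group G] [Finite G] [MulAction G Ω] [Finite Ω] (F : Fam G Ω)

/-- For `A ∈ Q \ {E}` let `T A ∈ C u` contain `A`; by `F.mt h`, `A` is the only member of `Q` inside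
`T A`, so `T A` is not the component `T₀ ≥ E` at `u`, and `T` is injective.  `A ≠ ⊥`, `A ≠ T A` (`A` fixes
a point `w ∈ W`, `h.na`), so there are `≥ 4` conjugates `B = cj(g,A) ≠ A`, `g ∈ T A` (`Smp.five_cj`).
Let `𝒮` be the set of all such `B` (for all `A`; `B ≠ ⊥`, `B ≤ T A` determines `A` by `eq_of_mem`), so
`ncard 𝒮 ≥ 4 (ncard Q - 1)`, and choose `g B ∈ T A` for each `B`.  The map `(B, w) ↦ g B • w` sends
`𝒮 × W` into `{z | On E z} \ {u}` (`g B` centralizes `E` and fixes `u`).  It is injective: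
`Pi m u (g w) = cj(g,·) '' Q` (`pi_conj` both ways); `g ∈ T A` fixes all members of `Q` other than `A`
(they lie in other components at `u`), so `B` is the only member of `Pi m u (g w)` outside `Q`
(`B ∉ Q` as `B ≤ T A`, `B ≠ A`). -/
theorem spread {m : ℕ} (h : F.Top m) {u : Ω} {W : Set Ω} (hW : W.Nonempty) (hu : u ∉ W)
    {Q : Set (Subgroup G)} (hQ : ∀ w ∈ W, F.Pi m u w = Q) {E : Subgroup G} (hE : E ∈ Q) :
    4 * (Q.ncard - 1) * W.ncard + 1 ≤ {z | F.On E z}.ncard := by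
  obtain ⟨w₀, hw₀⟩ := hW
  have huw : ∀ w ∈ W, u ≠ w := fun w hw e => hu (e ▸ hw)
  have mt' : ∀ A ∈ Q, ∀ A' ∈ Q, ∀ T ∈ F.C u, A ≤ T → A' ≤ T → A = A' := by
    rw [← hQ w₀ hw₀]; exact F.mt h u w₀ (huw _ hw₀)
  have hQ' : ∀ w ∈ W, ∀ A ∈ Q, Nat.card A = m ∧ F.On A u ∧ F.On A w := fun w hw A hA => by
    rw [← hQ w hw] at hA; exact hA
  have K : ∀ A ∈ Q, ∀ T ∈ F.C u, A ≤ T → ∀ g ∈ T, ∀ A' ∈ Q, A' ≠ A → g ∈ 𝐍[A'] := by
    intro A hA T hT l g hg A' hA' ne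
    obtain ⟨T', hT', l'⟩ := (hQ' w₀ hw₀ A' hA').2.1
    exact centralizer_le_normalizer' _ (Amb.centralizer_anti l' (F.comm u T hT T' hT'
      (fun e => ne (mt' A' hA' A hA T hT (e ▸ l') l)) hg))
  set S : Set (Subgroup G) := {B | ∃ A ∈ Q, A ≠ E ∧ B ≠ A ∧ ∃ T ∈ F.C u, A ≤ T ∧
    ∃ g ∈ T, cj(g, A) = B} with hS
  have ex : ∀ B ∈ S, ∃ A ∈ Q, A ≠ E ∧ B ≠ A ∧ ∃ T ∈ F.C u, A ≤ T ∧ ∃ g ∈ T, cj(g, A) = B :=
    fun B hB => hB
  choose! a a1 a2 a3 T t1 t2 g g1 g2 using ex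
  have BT : ∀ B ∈ S, B ≤ T B := fun B hB =>
    (g2 B hB).ge.trans (cj_le_of_mem (t2 B hB) (g1 B hB))
  have gu : ∀ B ∈ S, g B • u = u := fun B hB => F.fix u _ (t1 B hB) (g1 B hB)
  have h1 : 4 * (Q \ {E}).ncard ≤ S.ncard := pcm_lb (t := Q \ {E}) a
      (fun B hB => ⟨a1 B hB, a2 B hB⟩) fun A hA => by
    obtain ⟨c1, ⟨U, hU, l⟩, c3⟩ := hQ' w₀ hw₀ A hA.1
    have k1 := (F.smp u U hU).five_cj l (h.ne_bot c1) fun e =>
      h.na u w₀ (huw _ hw₀).symm U hU (e ▸ c3.fix)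
    have k2 : {B | ∃ g ∈ U, cj(g, A) = B} \ {A} ⊆ {B | B ∈ S ∧ a B = A} := by
      rintro B ⟨⟨x, hx, e⟩, ne⟩
      have hB : B ∈ S := ⟨A, hA.1, hA.2, ne, U, hU, l, x, hx, e⟩
      obtain ⟨y, hy⟩ := (ne_bot_iff_exists_ne_one (H := B)).1
        (e ▸ fun c => h.ne_bot c1 (cj_eq_bot.1 c))
      have k3 := F.eq_of_mem hU (t1 B hB) (cj_le_of_mem l hx (e ▸ y.2)) (BT B hB y.2)
        fun c => hy (Subtype.ext c)
      exact ⟨hB, mt' _ (a1 B hB) A hA.1 U hU (k3 ▸ t2 B hB) l⟩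
    have k4 := Set.ncard_le_ncard k2
    have k5 := Set.ncard_sdiff_singleton_add_one
      (s := {B | ∃ g ∈ U, cj(g, A) = B}) (a := A) ⟨1, one_mem _, cj_one A⟩
    omega
  have h2 : (S ×ˢ W).ncard ≤ ({z | F.On E z} \ {u}).ncard := by
    refine Set.ncard_le_ncard_of_injOn (fun p => g p.1 • p.2) (fun p hp => ⟨?_, fun e => ?_⟩) ?_
    · exact (hQ' _ hp.2 E hE).2.2.smul (K _ (a1 _ hp.1) _ (t1 _ hp.1) (t2 _ hp.1) _ (g1 _ hp.1) E hE
        (a2 _ hp.1).symm)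
    · exact huw _ hp.2 (MulAction.injective _ ((gu _ hp.1).trans e.symm))
    rintro ⟨B, w⟩ ⟨hB, hw⟩ ⟨B', w'⟩ ⟨hB', hw'⟩ e
    dsimp only at hB hw hB' hw' e
    have k1 := F.pi_conj (F.pi_conj ((hQ w hw).ge (a1 B hB)) (g B)) (g B')⁻¹
    rw [g2 B hB, gu B hB, e, inv_smul_smul, inv_smul_eq_iff.2 (gu B' hB').symm, hQ w' hw'] at k1
    have k2 : B = B' := by
      by_cases c : cj((g B')⁻¹, B) = a B'
      · rw [← g2 B' hB', ← c, cj_cj_inv]
      have k3 := cj_of_mem_normalizer (K _ (a1 _ hB') _ (t1 _ hB') (t2 _ hB') _ (g1 _ hB') _ k1 c)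
      rw [cj_cj_inv] at k3
      exact absurd (mt' B (k3 ▸ k1) _ (a1 B hB) _ (t1 B hB) (BT B hB) (t2 B hB)) (a3 B hB)
    subst k2
    rw [MulAction.injective _ e]
  have h3 := Set.ncard_sdiff_singleton_add_one (s := {z | F.On E z}) (a := u) (hQ' w₀ hw₀ E hE).2.1
  rw [Set.ncard_prod] at h2
  rw [Set.ncard_sdiff_singleton_of_mem hE] at h1
  have := Nat.mul_le_mul_right W.ncard h1
  omega

/-- Suppose `E ≠ E'`; all `Pi m u w` (`u ≠ w`) have `ncard = l ≥ 2` (`pi_ncard`).  Let `β = {u | On E u}`,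
`b = ncard β`, `1 ≠ t ∈ E`, `t z ≠ z` (`faith`); `z ∉ β`, `R = Pi m z (t z)`, `E ∉ R`.  For `u ∈ β`
with `E ≤ T ∈ C u`: at most one member of `Pi m u z` lies in `T` (`mt`); the others lie in other
components at `u`, are centralized by `t`, so lie in `R` (`On.smul`).  So at least `l - 1` members of
`R` are on `u`, and there is `c u ∈ R` such that all members of `R \ {c u}` are on `u`.  If `u ≠ w` in
`β` have `c u = c w = A` then `Pi m u w = insert E (R \ {A})` (contained, same `ncard`).  By `spread`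
each fibre of `c`, of size `s ≥ 2`, has `4 (l-1) (s-1) + 1 ≤ b`; and `4 (l-1) + 1 ≤ b` (`W = {y}`,
`u = x`).  So `4 (l-1) s ≤ 2 (b-1)` for every fibre, and `4 (l-1) b ≤ 2 l (b-1) ≤ 4 (l-1) (b-1)`:
false. -/
theorem pi_uniq {m : ℕ} (h : F.Top m) {x y : Ω} (hxy : x ≠ y) {E E' : Subgroup G}
    (hE : E ∈ F.Pi m x y) (hE' : E' ∈ F.Pi m x y) : E = E' := by
  by_contra hne
  have l2 : 1 < (F.Pi m x y).ncard := (Set.one_lt_ncard (Set.toFinite _)).2 ⟨E, hE, E', hE', hne⟩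
  have hl : ∀ u w, u ≠ w → (F.Pi m u w).ncard = (F.Pi m x y).ncard := fun u w e => F.pi_ncard m e hxy
  have b1 := F.spread h (u := x) (W := {y}) ⟨y, rfl⟩ hxy (Q := F.Pi m x y)
    (fun w hw => by rw [show w = y from hw]) hE
  rw [Set.ncard_singleton, mul_one] at b1
  generalize (F.Pi m x y).ncard = l at l2 hl b1
  obtain ⟨⟨t, ht⟩, t1⟩ := (ne_bot_iff_exists_ne_one (H := E)).1 (h.ne_bot hE.1)
  obtain ⟨z, hz⟩ : ∃ z : Ω, t • z ≠ z := by
    by_contra! c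
    exact t1 (Subtype.ext (F.faith t c))
  have zβ : ¬ F.On E z := fun e => hz (e.fix ht)
  have ex : ∀ u ∈ {u | F.On E u}, ∃ c ∈ F.Pi m z (t • z), ∀ A ∈ F.Pi m z (t • z), A ≠ c →
      F.On A u := fun u hu => by
    have uz : u ≠ z := fun e => zβ (e ▸ hu)
    obtain ⟨T, hT, l1⟩ := hu
    have k1 : {A | A ∈ F.Pi m u z ∧ ¬ A ≤ T} ⊆ F.Pi m z (t • z) := by
      rintro A ⟨⟨c1, ⟨T', hT', l'⟩, c3⟩, c4⟩
      exact ⟨c1, c3, c3.smul (centralizer_le_normalizer' _ (Amb.centralizer_anti l'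
        (F.comm u T hT T' hT' (fun e => c4 (e ▸ l')) (l1 ht))))⟩
    have k2 : {A | A ∈ F.Pi m u z ∧ ¬ A ≤ T} ⊆ F.Pi m u z := fun A hA => hA.1
    have k3 : (F.Pi m u z \ {A | A ∈ F.Pi m u z ∧ ¬ A ≤ T}).ncard ≤ 1 :=
      (Set.ncard_le_one_iff (Set.toFinite _)).2 fun {A B} hA hB => F.mt h u z uz A hA.1 B hB.1 T hT
        (by_contra fun c => hA.2 ⟨hA.1, c⟩) (by_contra fun c => hB.2 ⟨hB.1, c⟩)
    rw [Set.ncard_sdiff k2, hl u z uz] at k3
    obtain ⟨c, c1, c2⟩ := pcm_one (h.ex z _ hz.symm) k1 (by rw [hl _ _ hz.symm]; omega)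
    exact ⟨c, c1, fun A hA e => (c2 A hA e).1.2.1⟩
  choose! c c1 c2 using ex
  have b2 : {u | F.On E u}.ncard ≤ 2 * ({u | F.On E u}.ncard - 1) / (4 * (l - 1)) *
      (F.Pi m z (t • z)).ncard := pcm_ub c c1 fun A hA => by
    rw [Nat.le_div_iff_mul_le (by omega)]
    set s := {u | u ∈ {u | F.On E u} ∧ c u = A} with hs
    rcases s.eq_empty_or_nonempty with e | ⟨u, hu⟩
    · rw [e]; simp
    have k1 := Set.ncard_sdiff_singleton_add_one hu
    have k2 : (insert E (F.Pi m z (t • z) \ {A})).ncard = l := by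
      rw [Set.ncard_insert_of_notMem fun e => zβ e.1.2.1, Set.ncard_sdiff_singleton_add_one hA,
        hl _ _ hz.symm]
    have k3 : 4 * (l - 1) * (s \ {u}).ncard + 1 ≤ {u | F.On E u}.ncard := by
      rcases (s \ {u}).eq_empty_or_nonempty with e | e
      · rw [e, Set.ncard_empty]; omega
      rw [← k2]
      refine F.spread h e (fun k => k.2 rfl) (fun w hw => (Set.eq_of_subset_of_ncard_le ?_
        (by rw [k2, hl u w (Ne.symm hw.2)])).symm) (Set.mem_insert _ _)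
      rintro B (rfl | hB)
      · exact ⟨hE.1, hu.1, hw.1.1⟩
      · exact ⟨hB.1.1, c2 u hu.1 B hB.1 (hu.2 ▸ hB.2), c2 w hw.1.1 B hB.1 (hw.1.2 ▸ hB.2)⟩
    rw [← k1, add_mul, mul_comm]
    omega
  rw [hl _ _ hz.symm] at b2
  have b3 := Nat.div_mul_le_self (2 * ({u | F.On E u}.ncard - 1)) (4 * (l - 1))
  generalize 2 * ({u | F.On E u}.ncard - 1) / (4 * (l - 1)) = S at b2 b3
  obtain ⟨b, hb⟩ : ∃ b, {u | F.On E u}.ncard = b + 1 := ⟨{u | F.On E u}.ncard - 1, by omega⟩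
  obtain ⟨k, rfl⟩ : ∃ k, l = k + 2 := ⟨l - 2, by omega⟩
  rw [hb] at b2 b3
  simp only [Nat.add_sub_cancel, show k + 2 - 1 = k + 1 from rfl] at b2 b3
  nlinarith

end Fam

end Cfsg.Agent.ON2
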