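import Mathlib
import Cfsg.Agent.ON2.PcM

/-! O'Nan II: components at different points meet trivially. -/

set_option autoImplicit false
set_option linter.unusedSectionVars false
set_option linter.unusedVariables false

namespace Cfsg.Agent.ON2

open Cfsg Subgroup MulAction Cfsg.Agent.PLocal Cfsg.Agent.PLocal.Amb Cfsg.Agent.Trm
open scoped commutatorElement

/-- counting a family of pairwise disjoint sets -/
theorem pc1_count {α β : Type*} [Finite α] [Finite β] (r : α → β → Prop) (s : Set α) (t : Set β) {k : ℕ}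
    (h1 : ∀ a ∈ s, k ≤ {b | b ∈ t ∧ r a b}.ncard)
    (h2 : ∀ b ∈ t, ∀ a ∈ s, ∀ a' ∈ s, r a b → r a' b → a = a') : s.ncard * k ≤ t.ncard := by
  classical
  rw [Set.ncard_eq_toFinset_card s, Set.ncard_eq_toFinset_card t, ← mul_one (Finset.card t.toFinite.toFinset)]
  refine Finset.card_mul_le_card_mul r (fun a ha => ?_) fun b hb => Finset.card_le_one.2 fun a ha a' ha' => ?_
  · refine (h1 a (by simpa using ha)).trans_eq ?_
    rw [← Set.ncard_coe_finset]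
    congr 1
    ext b
    simp
  · simp only [Finset.mem_bipartiteBelow, Set.Finite.mem_toFinset] at ha ha' hb
    exact h2 b hb a ha.1 a' ha'.1 ha.2 ha'.2

namespace Fam

variable {G Ω : Type*} [Group G] [Finite G] [MulAction G Ω] [Finite Ω] (F : Fam G Ω)

theorem pc1_norm {u : Ω} {T V A : Subgroup G} (hT : T ∈ F.C u) (hV : V ∈ F.C u) (ne : T ≠ V) (hA : A ≤ V) :
    T ≤ 𝐍[A] :=
  (F.comm u T hT V hV ne).trans ((centralizer_le hA).trans (centralizer_le_normalizer _))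

/-- all lines have the same size (`t2`, `pi_conj`, `pi_uniq`: `cj(g,E) = E'`, and `g` maps the
points on `E` bijectively onto the points on `cj(g,E)`) -/
theorem line_card {m : ℕ} (h : F.Top m) {x y x' y' : Ω} (hxy : x ≠ y) (hxy' : x' ≠ y')
    {E E' : Subgroup G} (hE : E ∈ F.Pi m x y) (hE' : E' ∈ F.Pi m x' y') :
    {z | F.On E z}.ncard = {z | F.On E' z}.ncard := by
  obtain ⟨g, rfl, rfl⟩ := F.t2 x y x' y' hxy hxy'
  obtain rfl := F.pi_uniq h hxy' (F.pi_conj hE g) hE'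
  exact Set.ncard_congr (fun z _ => g • z) (fun z hz => hz.conj g) (fun _ _ _ _ e => MulAction.injective g e)
    fun z hz => ⟨g⁻¹ • z, by simpa only [cj_inv_cj, Set.mem_ofPred_eq] using Pre.On.conj hz g⁻¹, smul_inv_smul g z⟩

/-- a component `V` at `x` not containing `E` centralizes `E` and moves `y`; the orbit of `y` has
`≥ 5` points on `E`, different from `x` -/
theorem six_le {m : ℕ} (h : F.Top m) {x y : Ω} (hxy : x ≠ y) {E : Subgroup G}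
    (hE : E ∈ F.Pi m x y) : 6 ≤ {z | F.On E z}.ncard := by
  obtain ⟨T, hT, le⟩ := hE.2.1
  obtain ⟨V, hV, ne⟩ := F.exists_ne (x := x) T
  have k := (F.smp x V hV).five_orbit (h.na x y hxy.symm V hV)
  have k1 : x ∉ {z : Ω | ∃ g ∈ V, g • y = z} := fun ⟨g, hg, e⟩ =>
    hxy (MulAction.injective g ((F.fix x V hV hg).trans e.symm))
  refine (Nat.succ_le_succ k).trans ((Set.ncard_insert_of_notMem k1).ge.trans (Set.ncard_le_ncard ?_))
  rintro _ (rfl | ⟨g, hg, rfl⟩)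
  exacts [hE.2.1, hE.2.2.smul (F.pc1_norm hV hT ne le hg)]

/-- Let `b` be the size of the lines, `z₀ ∉ Fix t`, `E₀ ∈ Pi m z₀ (t z₀)`, `L₀` its line.  For
`w ∈ Fix t \ L₀` let `E w ∈ Pi m z₀ w`.  For different `w, w'` the lines of `E w`, `E w'` meet only in `z₀`:
else `E w = E w'` (`pi_uniq`) lies in `Pi m w w'`, so `cj(t, E w) = E w` (`pi_conj`, `pi_uniq`), `t z₀` is
on it, `E w = E₀`, `w ∈ L₀`.  So `ncard (Fix t \ L₀) * (b-1) ≤ n - 1`, and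
`ncard (Fix t) ≤ ncard (Fix t \ L₀) + b`. -/
theorem fix_bound {m : ℕ} (h : F.Top m) {x y : Ω} (hxy : x ≠ y) {E : Subgroup G}
    (hE : E ∈ F.Pi m x y) {t : G} (ht : t ≠ 1) :
    ({z : Ω | t • z = z}.ncard - {z | F.On E z}.ncard) * ({z | F.On E z}.ncard - 1) + 1 ≤
      Nat.card Ω := by
  obtain ⟨z₀, hz⟩ := not_forall.1 fun k => ht (F.faith t k)
  obtain ⟨E₀, h₀⟩ := h.ex z₀ (t • z₀) (Ne.symm hz)
  have ne : ∀ w, t • w = w → z₀ ≠ w := fun w hw e => hz (e ▸ hw)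
  have k := pc1_count (fun w z => ∃ A ∈ F.Pi m z₀ w, F.On A z) ({z : Ω | t • z = z} \ {z | F.On E₀ z}) {z₀}ᶜ
    (k := {z | F.On E z}.ncard - 1) (fun w hw => by
      obtain ⟨A, hA⟩ := h.ex z₀ w (ne w hw.1)
      rw [F.line_card h hxy (ne w hw.1) hE hA, ← Set.ncard_sdiff_singleton_of_mem (a := z₀) hA.2.1]
      exact Set.ncard_le_ncard fun z hz => ⟨hz.2, A, hA, hz.1⟩) (by
      rintro z hz' w hw w' hw' ⟨A, hA, a⟩ ⟨A', hA', a'⟩
      obtain rfl := F.pi_uniq h (Ne.symm hz') ⟨hA.1, hA.2.1, a⟩ ⟨hA'.1, hA'.2.1, a'⟩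
      by_contra n
      have k := F.pi_conj (⟨hA.1, hA.2.2, hA'.2.2⟩ : A ∈ F.Pi m w w') t
      rw [hw.1, hw'.1] at k
      have k1 := cj_eq_iff.1 (F.pi_uniq h n k ⟨hA.1, hA.2.2, hA'.2.2⟩)
      obtain rfl := F.pi_uniq h (Ne.symm hz) ⟨hA.1, hA.2.1, hA.2.1.smul k1⟩ h₀
      exact hw.2 hA.2.2)
  have k1 := Set.le_ncard_sdiff {z | F.On E₀ z} {z : Ω | t • z = z}
  rw [← F.line_card h hxy (Ne.symm hz) hE h₀] at k1
  rw [← Set.ncard_add_ncard_compl {z₀}, Set.ncard_singleton, add_comm 1]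
  exact Nat.succ_le_succ ((Nat.mul_le_mul_right _ k1).trans k)

/-- For `z ≠ u` let `e z` be the member of `Pi m u z`.  Take `V ≠ T` in `C u` and `g` with `g u = u`,
`cj(g,T) = V` (`F.tr`).  If `e z ≤ T` then `e (g z) = cj(g, e z) ≤ V` is not contained in `T`
(`eq_of_mem`).  So `z ↦ g z` maps the complement of `P ∪ {u}` injectively into `P`. -/
theorem half {m : ℕ} (h : F.Top m) {u : Ω} {T : Subgroup G} (hT : T ∈ F.C u) :
    Nat.card Ω ≤ 2 * {z | z ≠ u ∧ ∃ A ∈ F.Pi m u z, ¬ A ≤ T}.ncard + 1 := by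
  obtain ⟨V, hV, ne⟩ := F.exists_ne (x := u) T
  obtain ⟨g, hg, rfl⟩ := F.tr u T hT V hV
  set P := {z | z ≠ u ∧ ∃ A ∈ F.Pi m u z, ¬ A ≤ T}
  have k : (insert u P)ᶜ.ncard ≤ P.ncard := Set.ncard_le_ncard_of_injOn (fun z => g • z) (fun z hz => by
    have zu : z ≠ u := fun e => hz (.inl e)
    obtain ⟨A, hA⟩ := h.ex u z zu.symm
    have k := F.pi_conj hA g
    rw [hg] at k
    refine ⟨fun e => zu (MulAction.injective g (e.trans hg.symm)), _, k, fun le => ?_⟩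
    obtain ⟨⟨e, he⟩, e1⟩ := ne_bot_iff_exists_ne_one.1 (h.ne_bot k.1)
    exact ne (F.eq_of_mem hV hT (cj_mono g (of_not_not fun n => hz (.inr ⟨zu, A, hA, n⟩)) he) (le he)
      fun e => e1 (Subtype.ext e))) fun _ _ _ _ e => MulAction.injective g e
  have k1 := Set.ncard_add_ncard_compl (insert u P)
  have k2 := Set.ncard_insert_le u P
  omega

/-- Let `E ∈ Pi m x y`, `ℓ = {u | On E u}`, `b = ncard ℓ ≥ 6`, `1 ≠ t ∈ E`, `Φ = Fix t ⊇ ℓ`,
`c = ncard Φ - b`, `n = |Ω|`.  For `u ∈ ℓ` let `E ≤ T u ∈ C u` and `P u` as in `half`.  Count the pairs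
`(u, z)`, `u ∈ ℓ`, `z ∈ P u`: at least `b (n-1) / 2`.  A point `z ∈ ℓ` lies in no `P u` (`pi_uniq`:
`A = E`).  A point `z ∉ Φ` lies in at most one: for `z ∈ P u`, `A` lies in a component `≠ T u` at `u`, is
centralized by `t`, so `A ∈ Pi m z (t z)`; two such `u ≠ u'` give the same `A ∈ Pi m u u'`, so `A = E`,
`z ∈ ℓ`.  A point of `Φ \ ℓ` lies in at most `b`.  So `b (n-1) ≤ 2 (n-1) + 2 b c`
(`ncard Φᶜ ≤ n - 1`), and `c (b-1) ≤ n - 1` (`fix_bound`), so `5 c ≤ n - 1`,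
`2 b c ≤ 2 (n-1) + 2 c`; `b ≥ 6`, `n ≥ 2` give a contradiction. -/
theorem top_false {m : ℕ} (h : F.Top m) (x : Ω) : False := by
  obtain ⟨y, hxy⟩ := F.nt x
  obtain ⟨E, hE⟩ := h.ex y x hxy
  obtain ⟨⟨t, tE⟩, t1⟩ := ne_bot_iff_exists_ne_one.1 (h.ne_bot hE.1)
  have k1 := F.fix_bound h hxy hE (t := t) fun e => t1 (Subtype.ext e)
  have k2 := F.six_le h hxy hE
  have sub : {z | F.On E z} ⊆ {z : Ω | t • z = z} := fun z hz => hz.fix tE
  rw [← Set.ncard_sdiff sub] at k1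
  have k3 := pc1_count (fun u z => z ≠ u ∧ ∃ A ∈ F.Pi m u z, t ∈ 𝐍[A]) {z | F.On E z} {z : Ω | t • z = z}ᶜ
    (k := Nat.card Ω / 2 - ({z : Ω | t • z = z} \ {z | F.On E z}).ncard) (fun u ⟨T, hT, le⟩ => by
      have k := F.half h hT
      have k' := (Set.ncard_le_ncard (s := {z | z ≠ u ∧ ∃ A ∈ F.Pi m u z, ¬ A ≤ T}) (t :=
        {z | z ∈ {z : Ω | t • z = z}ᶜ ∧ z ≠ u ∧ ∃ A ∈ F.Pi m u z, t ∈ 𝐍[A]} ∪
          {z : Ω | t • z = z} \ {z | F.On E z}) fun z ⟨zu, A, hA, n⟩ => by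
        by_cases hz : t • z = z
        · exact .inr ⟨hz, fun a => n (F.pi_uniq h zu.symm hA ⟨hE.1, ⟨T, hT, le⟩, a⟩ ▸ le)⟩
        · obtain ⟨V, hV, le'⟩ := hA.2.1
          exact .inl ⟨hz, zu, A, hA, F.pc1_norm hT hV (fun e => n (e ▸ le')) le' (le tE)⟩).trans
            (Set.ncard_union_le _ _)
      omega) (by
      rintro z hz u hu u' hu' ⟨-, A, hA, a⟩ ⟨-, A', hA', a'⟩
      obtain rfl := F.pi_uniq h (Ne.symm hz) ⟨hA.1, hA.2.2, hA.2.2.smul a⟩ ⟨hA'.1, hA'.2.2, hA'.2.2.smul a'⟩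
      by_contra n
      obtain rfl := F.pi_uniq h n ⟨hA.1, hA.2.1, hA'.2.1⟩ ⟨hE.1, hu, hu'⟩
      exact hz (hA.2.2.fix tE))
  have k4 := Set.ncard_add_ncard_compl {z : Ω | t • z = z}
  have k5 := Set.ncard_le_ncard sub
  have k6 := (Nat.mul_le_mul_right _ k2).trans k3
  have k7 := Nat.mul_le_mul_left ({z : Ω | t • z = z} \ {z | F.On E z}).ncard (Nat.sub_le_sub_right k2 1)
  omega

/-- otherwise let `m` be the largest order of `T ⊓ U`; `t2` and `pi_conj` give `Top.ex` -/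
theorem np (h : F.NA) : F.NP := by
  intro x y hxy T hT U hU
  by_contra n
  obtain ⟨⟨x', y', T', U'⟩, ⟨h1, h2, h3⟩, mx⟩ := Set.exists_max_image
    {q : Ω × Ω × Subgroup G × Subgroup G | q.1 ≠ q.2.1 ∧ q.2.2.1 ∈ F.C q.1 ∧ q.2.2.2 ∈ F.C q.2.1}
    (fun q => Nat.card ↥(q.2.2.1 ⊓ q.2.2.2)) (Set.toFinite _) ⟨⟨x, y, T, U⟩, hxy, hT, hU⟩
  refine F.top_false (m := Nat.card ↥(T' ⊓ U')) ⟨h, ((one_lt_card_iff_ne_bot _).2 n).trans_le
    (mx ⟨x, y, T, U⟩ ⟨hxy, hT, hU⟩), fun a b hab V hV W hW => mx ⟨a, b, V, W⟩ ⟨hab, hV, hW⟩, fun a b hab => ?_⟩ x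
  obtain ⟨g, rfl, rfl⟩ := F.t2 x' y' a b h1 hab
  exact ⟨_, F.pi_conj ⟨rfl, ⟨T', h2, inf_le_left⟩, ⟨U', h3, inf_le_right⟩⟩ g⟩

end Fam

end Cfsg.Agent.ON2
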