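import Mathlib
import Cfsg.Agent.ON2.Api
import Cfsg.Agent.ON2.Line

/-! O'Nan II: construction of the family of components. -/

set_option autoImplicit false
set_option linter.unusedSectionVars false
set_option linter.unusedVariables false

namespace Cfsg.Agent.ON2

open Cfsg Subgroup MulAction Cfsg.Agent.PLocal Cfsg.Agent.PLocal.Amb Cfsg.Agent.Trm
open scoped commutatorElement

variable {G Ω : Type*} [Group G] [Finite G] [MulAction G Ω] [Finite Ω]

theorem r1_min {L K : Subgroup G} (h0 : K ≠ ⊥) (h2 : L ≤ 𝐍[K]) :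
    ∃ M ≤ K, M ≠ ⊥ ∧ L ≤ 𝐍[M] ∧ ∀ A ≤ M, L ≤ 𝐍[A] → A = ⊥ ∨ A = M := by
  obtain ⟨M, h1, h⟩ := exists_minimal_le_of_wellFoundedLT (fun M : Subgroup G => M ≠ ⊥ ∧ L ≤ 𝐍[M]) K
    ⟨h0, h2⟩
  exact ⟨M, h1, h.1.1, h.1.2, fun A hA hL => or_iff_not_imp_left.2 fun c =>
    le_antisymm hA (h.2 ⟨c, hL⟩ hA)⟩

/-- an abelian subgroup `M ≠ ⊥` contains a `p`-subgroup `≠ ⊥` normalized by `𝐍[M]` -/
theorem r1_ab {M : Subgroup G} (h0 : M ≠ ⊥) (hc : M ≤ 𝐂[M]) :
    ∃ (p : ℕ) (P : Subgroup G), p.Prime ∧ IsPGroup p P ∧ P ≠ ⊥ ∧ P ≤ M ∧ 𝐍[M] ≤ 𝐍[P] := by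
  obtain ⟨p, hp, hd⟩ := Nat.exists_prime_and_dvd (mt card_eq_one.1 h0)
  have : Fact p.Prime := ⟨hp⟩
  obtain ⟨x, hx⟩ := exists_prime_orderOf_dvd_card' p hd
  let P : Subgroup G :=
    { carrier := {y | y ∈ M ∧ y ^ p = 1}
      one_mem' := ⟨one_mem _, one_pow _⟩
      mul_mem' := fun {a b} ha hb => ⟨mul_mem ha.1 hb.1, by
        rw [(show Commute a b from hc hb.1 a ha.1).mul_pow, ha.2, hb.2, mul_one]⟩
      inv_mem' := fun {a} ha => ⟨inv_mem ha.1, by rw [inv_pow, ha.2, inv_one]⟩ }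
  refine ⟨p, P, hp, isPGroup_iff.2 fun y hy => ⟨1, by rw [pow_one]; exact hy.2⟩, fun e => ?_,
    fun y hy => hy.1, le_normalizer_iff_cj.2 fun g hg => cj_le_iff_forall.2 fun y hy =>
      ⟨Amb.conj_mem_of_mem_normalizer hg hy.1, by rw [conj_pow, hy.2, mul_one, mul_inv_cancel]⟩⟩
  have h1 : (x : G) ∈ P := ⟨x.2, by rw [← hx]; exact congrArg Subtype.val (pow_orderOf_eq_one x)⟩
  rw [e, mem_bot, OneMemClass.coe_eq_one] at h1
  rw [h1, orderOf_one] at hx
  exact hp.one_lt.ne hx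

/-- Choose `M ≤ K` minimal among the subgroups `≠ ⊥` of `K` normalized by `G_a`, and `T ≤ M` minimal
among the subgroups `≠ ⊥` of `M` normalized by `M`.  Put `C y = {U | ∃ g, g • a = y ∧ U = cj(g,T)}`.
For `g ∈ G_a`, `cj(g,T)` is again minimal normal in `M`; two different ones `U, V` have
`U ⊓ V = ⊥` and so commute (`⁅U,V⁆ ≤ U ⊓ V`); conjugating gives `comm` at every point.
`M' = ⨆ U ∈ C a, U` is `≠ ⊥`, `≤ M`, normalized by `G_a`, so `M' = M`.  A subgroup `A ≤ T` normalized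
by `T` is centralized by the other members of `C a`, so normalized by `M`, so `A = ⊥` or `T`: `T` is
simple.  If `T ≤ 𝐂[T]` then `M` is abelian; for a prime `p ∣ |M|` the `p`-elements of `M` form a
`p`-subgroup `P ≠ ⊥` normalized by `G_a`, and `norm_eq` gives `𝐍[P] = G_a`: local, excluded. -/
theorem exists_pre
    (t2 : ∀ x y x' y' : Ω, x ≠ y → x' ≠ y' → ∃ g : G, g • x = x' ∧ g • y = y')
    (faith : ∀ g : G, (∀ x : Ω, g • x = x) → g = 1) (nt : ∀ x : Ω, ∃ y, y ≠ x) {a : Ω}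
    (hl : ¬ IsLocalSubgroup (stabilizer G a)) {K : Subgroup G} (h0 : K ≠ ⊥)
    (h1 : K ≤ stabilizer G a) (h2 : stabilizer G a ≤ 𝐍[K]) : ∃ F : Pre G Ω, F.N a ≤ K := by
  obtain ⟨M, hMK, M0, hM, mM⟩ := r1_min h0 h2
  obtain ⟨T, hTM, T0, hT, mT⟩ := r1_min M0 (le_normalizer (H := M))
  have c1 : ∀ g ∈ stabilizer G a, cj(g, T) ≤ M := fun g hg => cj_le_of_mem_normalizer hTM (hM hg)
  have c2 : ∀ g ∈ stabilizer G a, M ≤ 𝐍[cj(g, T)] := fun g hg => by
    rw [normalizer_cj]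
    exact (cj_of_mem_normalizer (hM hg)).ge.trans (cj_mono g hT)
  have c3 : ∀ g ∈ stabilizer G a, cj(g, T) ≠ T → cj(g, T) ≤ 𝐂[T] := fun g hg ne => by
    have e := (mT (T ⊓ cj(g, T)) inf_le_left (le_normalizer_inf hT (c2 g hg))).resolve_right
      fun e => ne (eq_of_le_of_card_ge (e.ge.trans inf_le_right) (card_cj g T).le).symm
    refine commutator_eq_bot_iff_le_centralizer.1 (eq_bot_iff.2 (le_trans (commutator_le.2
      fun u hu t ht => mem_inf.2 ⟨?_, ?_⟩) e.le))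
    · exact mul_mem (Amb.conj_mem_of_mem_normalizer (hT (c1 g hg hu)) ht) (inv_mem ht)
    · have := mul_mem hu (Amb.conj_mem_of_mem_normalizer (c2 g hg (hTM ht)) (inv_mem hu))
      rwa [← mul_assoc, ← mul_assoc] at this
  have c4 : ∀ X : Subgroup G, T ≤ X → 𝐂[T] ≤ X → M ≤ X := fun X k1 k2 => by
    have e := (mM (⨆ g ∈ stabilizer G a, cj(g, T)) (iSup₂_le c1) (le_normalizer_iff_cj.2 fun g hg =>
      cj_le_iff.2 (iSup₂_le fun k hk => cj_le_iff.1 (by
        rw [← cj_mul]; exact le_iSup₂_of_le (g * k) (mul_mem hg hk) le_rfl)))).resolve_left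
      fun e => T0 (eq_bot_iff.2 ((le_iSup₂_of_le 1 (one_mem _) (cj_one T).ge).trans e.le))
    refine e.ge.trans (iSup₂_le fun g hg => ?_)
    by_cases c : cj(g, T) = T
    exacts [c.le.trans k1, (c3 g hg c).trans k2]
  have sT : Smp T := by
    refine ⟨@IsSimpleGroup.mk _ _ ((nontrivial_iff_ne_bot T).2 T0) fun B hB => ?_, fun hc => hl ?_⟩
    · refine (mT (B.map T.subtype) (map_subtype_le B) (c4 _ (le_normalizer_map_subtype B)
        ((centralizer_anti (map_subtype_le B)).trans (centralizer_le_normalizer' _)))).imp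
        (fun e => (map_eq_bot_iff_of_injective _ T.subtype_injective).1 e) fun e => ?_
      rw [← map_subtype_subgroupOf B, e, subgroupOf_self]
    · have k1 : T ≤ 𝐂[M] := le_centralizer_iff.1 (c4 _ hc le_rfl)
      have k2 := (mM (M ⊓ 𝐂[M]) inf_le_left (le_normalizer_inf hM (le_normalizer_centralizer hM))).resolve_left
        fun e => T0 (eq_bot_iff.2 ((le_inf hTM k1).trans e.le))
      obtain ⟨p, P, hp, k3, k4, k5, k6⟩ := r1_ab M0 (k2.ge.trans inf_le_right)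
      exact ⟨p, P, hp, k3, k4, (norm_eq t2 faith k4 (k5.trans (hMK.trans h1)) (hM.trans k6)).symm⟩
  refine ⟨{ C := fun y => {U | ∃ g : G, g • a = y ∧ U = cj(g, T)}
            t2 := t2
            faith := faith
            nt := nt
            ne := fun x => ?_
            eqv := ?_
            fix := ?_
            smp := ?_
            comm := ?_
            tr := ?_ }, iSup₂_le ?_⟩
  · obtain ⟨x', hx⟩ := nt x
    obtain ⟨a', ha⟩ := nt a
    obtain ⟨g, hg, -⟩ := t2 a a' x x' ha.symm hx.symm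
    exact ⟨_, g, hg, rfl⟩
  · rintro g _ _ ⟨k, rfl, rfl⟩
    exact ⟨g * k, mul_smul _ _ _, (cj_mul _ _ _).symm⟩
  · rintro _ _ ⟨k, rfl, rfl⟩
    refine cj_le_iff_forall.2 fun t ht => ?_
    rw [mem_stabilizer_iff, mul_smul, inv_smul_smul, mul_smul,
      mem_stabilizer_iff.1 (h1 (hMK (hTM ht)))]
  · rintro _ _ ⟨k, rfl, rfl⟩
    exact sT.conj k
  · rintro _ _ ⟨k, rfl, rfl⟩ _ ⟨g, hg, rfl⟩ ne
    have := c3 (g⁻¹ * k) (by rw [mem_stabilizer_iff, mul_smul, ← hg, inv_smul_smul]) fun e => ne (by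
      rw [← cj_inj (g := g), ← cj_mul, mul_inv_cancel_left] at e; exact e)
    rwa [centralizer_cj, le_cj_iff, ← cj_mul]
  · rintro _ _ ⟨k, rfl, rfl⟩ _ ⟨g, hg, rfl⟩
    exact ⟨g * k⁻¹, by rw [mul_smul, inv_smul_smul, hg], by rw [← cj_mul, inv_mul_cancel_right]⟩
  · rintro _ ⟨g, hg, rfl⟩
    exact (c1 g hg).trans hMK

end Cfsg.Agent.ON2
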