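import Mathlib
import Cfsg.Agent.ON2.Smp

/-! O'Nan II: involutions in components fixing one point only, I. -/

set_option autoImplicit false
set_option linter.unusedSectionVars false
set_option linter.unusedVariables false

namespace Cfsg.Agent.ON2

open Cfsg Subgroup MulAction Cfsg.Agent.PLocal Cfsg.Agent.PLocal.Amb Cfsg.Agent.Trm
open scoped commutatorElement

namespace Fam

variable {G Ω : Type*} [Group G] [Finite G] [MulAction G Ω] [Finite Ω] (F : Fam G Ω)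
  (h : ∀ x t, F.I x t → ∀ y, t • y = y → y = x)
include h

/-- `t = g t g⁻¹ ∈ I (g x)` fixes `x` -/
theorem reg_cent {x : Ω} {t g : G} (ht : F.I x t) (hg : g * t = t * g) : g • x = x := by
  have := ht.conj g
  rw [hg, mul_inv_cancel_right] at this
  exact (h _ _ this x ht.fix).symm

/-- `t e = c t c⁻¹` or `c s c⁻¹` lies in `I w` for some `w` and fixes `x` (`e` does by `reg_cent`), so
`w = x`.  If its component is `T` then `e ∈ T` is an involution fixing `y` (`reg_cent` for `s`). -/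
theorem reg_half {x y : Ω} (hxy : x ≠ y) {T : Subgroup G} (hT : T ∈ F.C x) {t s e c : G}
    (ht : t ∈ T) (it : Iv t) (hs : F.I y s) (ie : Iv e) (h1 : e * t = t * e) (h2 : e * s = s * e)
    (hc : c * t * c⁻¹ = t * e ∨ c * s * c⁻¹ = t * e) :
    ∃ V ∈ F.C x, V ≠ T ∧ t * e ∈ V ∧ Iv (t * e) := by
  have hI : F.I x t := ⟨it, T, hT, ht⟩
  obtain ⟨w, hw⟩ : ∃ w, F.I w (t * e) :=
    hc.elim (fun k => ⟨_, k ▸ hI.conj c⟩) fun k => ⟨_, k ▸ hs.conj c⟩
  obtain rfl := h w _ hw x (by rw [mul_smul, F.reg_cent h hI h1, hI.fix])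
  obtain ⟨iv, V, hV, m⟩ := hw
  exact ⟨V, hV, fun k => hxy (h x e ⟨ie, T, hT, (mul_mem_cancel_left ht).1 (k ▸ m)⟩ y
    (F.reg_cent h hs h2)).symm, m, iv⟩

theorem reg_mv {x y : Ω} {v u c : G} (hv : F.I x v) (hu : F.I y u) (k : c * v * c⁻¹ = u) :
    c • x = y := (h _ _ (hv.conj c) y (k ▸ hu.fix)).symm

omit h in
theorem reg_aux {x y : Ω} {T T' U U' : Subgroup G} (hT : T ∈ F.C x)
    (hT' : T' ∈ F.C x) (hU : U ∈ F.C y) (hU' : U' ∈ F.C y) (h1 : T ≠ T') (h2 : U ≠ U')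
    {t t' s s' c e : G} (ht : t ∈ T) (ht' : t' ∈ T') (hs : s ∈ U) (hs' : s' ∈ U') (it : Iv t)
    (e1 : t * t' = e) (e2 : s * s' = e) (hc : c * e = e * c) (cx : c • x = y) :
    (cj(c, T) = U ∧ c * t * c⁻¹ = s ∧ c * t' * c⁻¹ = s') ∨
      (cj(c, T) = U' ∧ c * t * c⁻¹ = s' ∧ c * t' * c⁻¹ = s) := by
  subst cx
  exact F.w2 (F.eqv c x T hT) (F.eqv c x T' hT') hU hU' (cj_inj.not.2 h1) h2 (conj_mem_cj c ht)
    (conj_mem_cj c ht') hs hs' (it.conj c).1 (by rw [conj_mul, e1, e2, hc, mul_inv_cancel_right])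

/-- No element `e = t t' = s s'` has weight two at two points.  Take an involution `v ≠ t` of `T`
commuting with `t` (`Smp.exists_other`); `v` and `s` commute with `e`, so does every element of
`closure {v, s}` (`comm_of_closure`).
Odd case (`dih_odd`): `c s c⁻¹ = v` with `c = c₀⁻¹`; `v ∈ I (c y)` fixes `x`, so `c y = x`, `cj(c,U) = T`
(`eq_of_mem`), and `t t' = e = v (c s' c⁻¹)` with `c s' c⁻¹ ∈ cj(c,U') ≠ T`; `w2` gives `t = v`.
Even case (`dih_even`, element `e'`): by `reg_half`, `v' = v e' ∈ V₁ ≠ T` at `x`, `s₁ = s e' ∈ V₂ ≠ U` at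
`y`; `e'` fixes `y`; `c` commutes with `e` and `e'`.
* `c s c⁻¹ = s₁`: `c y = y`, `cj(c,U) = V₂`, `s₁ (c s' c⁻¹) = e = s s'`; `w2` gives `s₁ = s'`, so
`e' = e`; then `v v' = e = t t'` and `w2` gives `v = t`.
* `c v c⁻¹ = s₁`: `c x = y`, `cj(c,T) = V₂`, `(c t c⁻¹) (c t' c⁻¹) = e = s s'`; `w2` gives `c t' c⁻¹ = s`.
Also `s₁ (c v' c⁻¹) = e' = s s₁ = s₁ s`, so `c v' c⁻¹ = s`, `v' = t'`, `e e' = t t' v t' = t v` is an
involution of `T` fixing `y` (`e` commutes with `s`): false. -/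
theorem reg_two {x y : Ω} (hxy : x ≠ y) {T T' U U' : Subgroup G} (hT : T ∈ F.C x)
    (hT' : T' ∈ F.C x) (hU : U ∈ F.C y) (hU' : U' ∈ F.C y) (h1 : T ≠ T') (h2 : U ≠ U')
    {t t' s s' : G} (ht : t ∈ T) (ht' : t' ∈ T') (hs : s ∈ U) (hs' : s' ∈ U') (it : Iv t)
    (it' : Iv t') (is : Iv s) (is' : Iv s') : t * t' ≠ s * s' := by
  intro ee
  obtain ⟨v, hv, iv, vt, cv⟩ := (F.smp x T hT).exists_other ht it
  have Iv' : F.I x v := ⟨iv, T, hT, hv⟩
  have Is : F.I y s := ⟨is, U, hU, hs⟩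
  have c1 : v * (t * t') = t * t' * v := by
    rw [← mul_assoc, cv, mul_assoc, F.comm' hT hT' h1 hv ht', mul_assoc]
  have c2 : s * (t * t') = t * t' * s := by
    rw [ee, mul_assoc, ← F.comm' hU hU' h2 hs hs']
  by_cases ho : Odd (orderOf (v * s))
  · obtain ⟨c, hc, k⟩ := dih_odd iv is ho
    have cx := F.reg_mv h Iv' Is k
    rcases F.reg_aux hT hT' hU hU' h1 h2 ht ht' hs hs' it rfl ee.symm (comm_of_closure hc c1 c2) cx
      with ⟨-, k1, -⟩ | ⟨k1, -⟩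
    · exact vt (mul_left_cancel (mul_right_cancel (k.trans k1.symm)))
    · exact h2 (F.eq_of_mem hU hU' hs (k ▸ k1 ▸ conj_mem_cj c hv) is.1)
  obtain ⟨e, -, ie, e1, e2, ⟨c₀, -, hc₀⟩, c, hc, k⟩ := dih_even iv is ho
  obtain ⟨V, hV, nV, mV, iV⟩ := F.reg_half h hxy hT hv iv Is ie e1 e2 hc₀
  obtain ⟨W, hW, nW, mW, iW⟩ := F.reg_half h hxy.symm hU hs is Iv' ie e2 e1 k
  have IW : F.I y (s * e) := ⟨iW, W, hW, mW⟩
  have c3 := comm_of_closure hc c1 c2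
  rcases k with k | k
  · rcases F.reg_aux hU hU' hU hU' h2 h2 hs hs' hs hs' is ee.symm ee.symm c3 (F.reg_mv h Is IW k)
      with ⟨-, k1, -⟩ | ⟨-, k1, -⟩
    · exact ie.1 (mul_eq_left.1 (k.symm.trans k1))
    · rcases F.w2 hT hV hT hT' nV.symm h1 hv mV ht ht' iv.1
        (by rw [iv.cancel, ee, ← k1, k, is.cancel]) with ⟨-, k2, -⟩ | ⟨k2, -⟩
      exacts [vt k2, h1 k2]
  have cx := F.reg_mv h Iv' IW k
  have n : cj(c, T) ≠ U := fun k1 => nW (F.eq_of_mem hW hU mW (k ▸ k1 ▸ conj_mem_cj c hv) iW.1)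
  obtain ⟨-, -, k1⟩ := (F.reg_aux hT hT' hU hU' h1 h2 ht ht' hs hs' it rfl ee.symm c3 cx).resolve_left
    fun k1 => n k1.1
  obtain ⟨-, -, k2⟩ := (F.reg_aux hT hV hU hW nV.symm nW.symm hv mV hs mW iv (iv.cancel e)
    (is.cancel e) (comm_of_closure hc e1.symm e2.symm) cx).resolve_left fun k1 => n k1.1
  have k3 : t' = v * e := mul_left_cancel (mul_right_cancel (k1.trans k2.symm))
  refine hxy (h x (t * v) ⟨it.mul iv vt.symm cv.symm, T, hT, mul_mem ht hv⟩ y ?_).symm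
  rw [show t * v = t * t' * e by rw [k3, mul_assoc, mul_assoc, ie.2, mul_one], mul_smul,
    F.reg_cent h Is e2, F.reg_cent h Is c2.symm]

/-- otherwise `dih_even` and `reg_half` (twice) give `e = t (t e) = s (s e)`, against `reg_two` -/
theorem reg_odd {x y : Ω} (hxy : x ≠ y) {t s : G} (ht : F.I x t) (hs : F.I y s) :
    Odd (orderOf (t * s)) := by
  by_contra ho
  obtain ⟨e, -, ie, e1, e2, ⟨c₀, -, hc₀⟩, c, -, k⟩ := dih_even ht.1 hs.1 ho
  obtain ⟨T, hT, mt⟩ := ht.2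
  obtain ⟨U, hU, ms⟩ := hs.2
  obtain ⟨V, hV, nV, mV, iV⟩ := F.reg_half h hxy hT mt ht.1 hs ie e1 e2 hc₀
  obtain ⟨W, hW, nW, mW, iW⟩ := F.reg_half h hxy.symm hU ms hs.1 ht ie e2 e1 k
  exact F.reg_two h hxy hT hV hU hW nV.symm nW.symm mt mV ms mW ht.1 iV hs.1 iW
    (by rw [ht.1.cancel, hs.1.cancel])

end Fam

end Cfsg.Agent.ON2
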