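import Mathlib
import Cfsg.Agent.ON2.Reg1

/-! O'Nan II: involutions in components fixing one point only, II. -/

set_option autoImplicit false
set_option linter.unusedSectionVars false
set_option linter.unusedVariables false

namespace Cfsg.Agent.ON2

open Cfsg Subgroup MulAction Cfsg.Agent.PLocal Cfsg.Agent.PLocal.Amb Cfsg.Agent.Trm
open scoped commutatorElement

namespace Fam

variable {G Ω : Type*} [Group G] [Finite G] [MulAction G Ω] [Finite Ω] (F : Fam G Ω)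

omit [Finite G] in
theorem r2_iv {a b : G} (ha : Iv a) (hb : Iv b) (hne : a ≠ b) (h : a * b = b * a) : Iv (a * b) :=
  ⟨fun e => hne (by rw [eq_inv_of_mul_eq_one_left e, hb.inv_eq]), by
    rw [mul_assoc, ← mul_assoc b, ← h, mul_assoc, hb.2, mul_one, ha.2]⟩

omit [Finite G] in
theorem r2_comm {T : Subgroup G} {a b e : G} (hb : b ∈ T) (h : b * a = a * b) (hc : a⁻¹ * e ∈ 𝐂[T]) :
    b * e = e * b := by
  have e1 : e = a * (a⁻¹ * e) := by group
  generalize a⁻¹ * e = c at hc e1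
  rw [e1, ← mul_assoc, h, mul_assoc, hc b hb, mul_assoc]

theorem r2_prod {x : Ω} {T T' : Subgroup G} (hT : T ∈ F.C x) (hT' : T' ∈ F.C x) (h1 : T ≠ T') {t t' : G}
    (ht : t ∈ T) (ht' : t' ∈ T') (it : Iv t) (it' : Iv t') : Iv (t * t') :=
  r2_iv it it' (fun e => h1 (F.eq_of_mem hT hT' ht (e ▸ ht') it.1)) (F.comm' hT hT' h1 ht ht')

/-- a non-trivial coordinate `a` of `e` (`exists_coord`) is an involution: `e = a c`, `c ∈ 𝐂[T]`,
`1 = e e = a a c c`, so `a a ∈ T ⊓ 𝐂[T]` -/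
theorem iv_coord {x : Ω} {e : G} (he : e ∈ F.N x) (ie : Iv e) :
    ∃ T ∈ F.C x, ∃ a ∈ T, Iv a ∧ a⁻¹ * e ∈ 𝐂[T] := by
  obtain ⟨T, hT, a, ha, a1, hc⟩ := F.exists_coord he ie.1
  refine ⟨T, hT, a, ha, ⟨a1, (F.smp x T hT).eq_one (mul_mem ha ha) ?_⟩, hc⟩
  have k := ie.2
  have e1 : e = a * (a⁻¹ * e) := by group
  generalize a⁻¹ * e = c at hc e1
  rw [e1, mul_assoc, ← mul_assoc c, ← hc a ha, mul_assoc, ← mul_assoc a a] at k
  rw [eq_inv_of_mul_eq_one_left k]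
  exact inv_mem (mul_mem hc hc)

variable (h : ∀ x t, F.I x t → ∀ y, t • y = y → y = x)
include h

/-- Let `a ∈ T ∈ C x`, `s ∈ U ∈ C y` be coordinates of `e` (`iv_coord`) and `a' ≠ a` an involution of `T`
commuting with `a`.  `a, a', s` commute with `e`.  By `reg_odd`, `dih_odd`: `c₁ a c₁⁻¹ = s = c₂ a' c₂⁻¹`
with `c₁, c₂` commuting with `e`; `c = c₂⁻¹ c₁` has `c a c⁻¹ = a'`, so `c x = x`, `cj(c,T) = T`
(`eq_of_mem`), and `a'⁻¹ e = c (a⁻¹ e) c⁻¹ ∈ 𝐂[T]`; `Smp.coord_eq` gives `a = a'`. -/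
theorem reg_noD {x y : Ω} (hxy : x ≠ y) {e : G} (h1 : e ∈ F.N x) (h2 : e ∈ F.N y) : ¬ Iv e := by
  intro ie
  obtain ⟨T, hT, a, ha, ia, ca⟩ := F.iv_coord h1 ie
  obtain ⟨U, hU, s, hs, is, cs⟩ := F.iv_coord h2 ie
  obtain ⟨b, hb, ib, ne, ba⟩ := (F.smp x T hT).exists_other ha ia
  have Ia : F.I x a := ⟨ia, T, hT, ha⟩
  have Ib : F.I x b := ⟨ib, T, hT, hb⟩
  have Is : F.I y s := ⟨is, U, hU, hs⟩
  obtain ⟨c₁, m₁, e₁⟩ := dih_odd ia is (F.reg_odd h hxy Ia Is)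
  obtain ⟨c₂, m₂, e₂⟩ := dih_odd ib is (F.reg_odd h hxy Ib Is)
  have k₁ := comm_of_closure m₁ (r2_comm ha rfl ca) (r2_comm hs rfl cs)
  have k₂ := comm_of_closure m₂ (r2_comm hb ba ca) (r2_comm hs rfl cs)
  have e3 : c₂⁻¹ * c₁ * a * (c₂⁻¹ * c₁)⁻¹ = b := by
    calc _ = c₂⁻¹ * (c₁ * a * c₁⁻¹) * c₂ := by group
      _ = b := by rw [e₁, ← e₂]; group
  have k3 : c₂⁻¹ * c₁ * e * (c₂⁻¹ * c₁)⁻¹ = e :=
    mul_inv_eq_of_eq_mul ((Commute.inv_left k₂).mul_left k₁).eq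
  generalize c₂⁻¹ * c₁ = c at e3 k3
  have hx : c • x = x := (h _ _ (e3 ▸ Ia.conj c) x Ib.fix).symm
  have hc : cj(c, T) = T := F.eq_of_mem (F.eqv_fix hx hT) hT (e3 ▸ conj_mem_cj c ha) hb ib.1
  refine ne ((F.smp x T hT).coord_eq hb ha ?_ ca)
  have := conj_mem_cj c ca
  rwa [← centralizer_cj, hc, ← conj_mul, k3, ← conj_inv, e3] at this

/-- `v = t t'` is an involution; if it normalizes `U` it centralizes an involution `r ∈ U`
(`exists_iv_cent'`); `r t` and `r t' = r t v` have odd order (`reg_odd`) and `v` commutes with `r t`;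
`eq_one_of_odd` gives `v = 1`. -/
theorem reg_B {x y : Ω} (hxy : x ≠ y) {T T' U : Subgroup G} (hT : T ∈ F.C x) (hT' : T' ∈ F.C x)
    (hU : U ∈ F.C y) (h1 : T ≠ T') {t t' : G} (ht : t ∈ T) (ht' : t' ∈ T') (it : Iv t)
    (it' : Iv t') : t * t' ∉ 𝐍[U] := by
  intro hn
  have iv := F.r2_prod hT hT' h1 ht ht' it it'
  have tt := F.comm' hT hT' h1 ht ht'
  obtain ⟨u, hu, iu⟩ := (F.smp y U hU).exists_iv
  obtain ⟨r, hr, ir, hc⟩ := exists_iv_cent' iv.p2.pgrp (zpowers_le.2 hn) hu iu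
  have Ir : F.I y r := ⟨ir, U, hU, hr⟩
  refine iv.1 (eq_one_of_odd (F.reg_odd h hxy.symm Ir ⟨it, T, hT, ht⟩) ?_ iv.2 ?_)
  · rw [mul_assoc, ← mul_assoc t, it.2, one_mul]
    exact F.reg_odd h hxy.symm Ir ⟨it', T', hT', ht'⟩
  · exact (Commute.mul_left (hc _ (mem_zpowers _)).symm ((Commute.refl t).mul_right tt)).eq

/-- Suppose `v = t t'` fixes `y ≠ x`.  Take `U ∈ C y`; `U' = cj(v,U) ≠ U` (`reg_B`).  For an involution
`a ∈ U` put `d a = a (v a v⁻¹)`; it commutes with `v`.  `v ∈ N x ⊓ N (d x)`, so `d x = x` (`reg_noD`).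
`(d t d⁻¹) (d t' d⁻¹) = t t'`; by `w2`, `cj(d,T) = T` (excluded by `reg_B` at `y`) or `cj(d,T) = T'`;
in the same way `cj(d,T') = T`.  For a four-group `a, b, a b` of `U` (`Smp.four`),
`d (a b) = d a * d b` normalizes `T`, against `reg_B`. -/
theorem reg_fix {x y : Ω} {T T' : Subgroup G} (hT : T ∈ F.C x) (hT' : T' ∈ F.C x) (h1 : T ≠ T')
    {t t' : G} (ht : t ∈ T) (ht' : t' ∈ T') (it : Iv t) (it' : Iv t') (hy : (t * t') • y = y) :
    y = x := by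
  by_contra hne
  have iv := F.r2_prod hT hT' h1 ht ht' it it'
  have vN : t * t' ∈ F.N x := mul_mem (F.le_N hT ht) (F.le_N hT' ht')
  obtain ⟨U, hU⟩ := F.ne y
  have hU' := F.eqv_fix hy hU
  have hUU : U ≠ cj(t * t', U) := fun e =>
    F.reg_B h (Ne.symm hne) hT hT' hU h1 ht ht' it it' (cj_eq_iff.1 e.symm)
  have key : ∀ a ∈ U, Iv a → cj(a * (t * t' * a * (t * t')⁻¹), T) = T' ∧
      cj(a * (t * t' * a * (t * t')⁻¹), T') = T := fun a ha ia => by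
    have nB := F.reg_B h hne hU hU' hT hUU ha (conj_mem_cj _ ha) ia (ia.conj _)
    have hd : a * (t * t' * a * (t * t')⁻¹) * (t * t') * (a * (t * t' * a * (t * t')⁻¹))⁻¹ = t * t' := by
      have c := F.comm' hU hU' hUU ha (conj_mem_cj (t * t') ha)
      generalize t * t' = v at iv c
      rw [mul_inv_eq_iff_eq_mul]
      nth_rw 2 [c]
      have c2 : ∀ w, v * (v * w) = w := fun w => by rw [← mul_assoc, iv.2, one_mul]
      simp only [iv.inv_eq, mul_assoc, iv.2, mul_one, c2]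
    generalize a * (t * t' * a * (t * t')⁻¹) = d at nB hd
    have dx : d • x = x := by
      by_contra c
      refine F.reg_noD h c ?_ vN iv
      rw [← F.cj_N, ← hd]
      exact conj_mem_cj d vN
    rcases F.w2 (F.eqv_fix dx hT) (F.eqv_fix dx hT') hT hT' (fun e => h1 (cj_inj.1 e)) h1 (conj_mem_cj d ht)
      (conj_mem_cj d ht') ht ht' (it.conj d).1 (by rw [conj_mul, hd]) with k | k
    · exact absurd (cj_eq_iff.1 k.1) nB
    · exact ⟨k.1, F.eq_of_mem (F.eqv_fix dx hT') hT (k.2.2 ▸ conj_mem_cj d ht') ht it.1⟩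
  obtain ⟨a, ha, b, hb, ia, ib, ne, ab⟩ := (F.smp y U hU).four
  have k := (key _ (mul_mem ha hb) (r2_iv ia ib ne ab)).1
  have c := F.comm' hU hU' hUU hb (conj_mem_cj (t * t') ha)
  rw [← conj_mul, mul_assoc a, ← mul_assoc b, c, mul_assoc _ b, ← mul_assoc a, cj_mul, (key b hb ib).1,
    (key a ha ia).2] at k
  exact h1 k

/-- Take `x` (from `x₀`), `T ≠ T'` at `x`, involutions `t, t'`, `v = t t' ∈ N x` (it fixes only `x`,
`reg_fix`), `y ≠ x`, `s ∈ I y`.  Odd case: `v = c s c⁻¹ ∈ I (c y)` fixes `x`, so `v ∈ W ∈ C x`; `W = T`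
(else `v`, hence `t`, centralizes `T`) and `W = T'`: false.  Even case: `e` commutes with `v` and `s`,
so fixes `x` and `y`.  Every conjugate `c v c⁻¹` or `c s c⁻¹` lies in `N w` and fixes only `w`, for
`w = c x` or `c y`.  `v e` fixes `x`, so `v e ∈ N x`, `e ∈ N x`; `s e` fixes `y`, so `e ∈ N y`; this
contradicts `reg_noD`. -/
theorem reg_false (x₀ : Ω) : False := by
  obtain ⟨T, hT, T', hT', h1⟩ := F.two x₀
  obtain ⟨t, ht, it⟩ := (F.smp _ T hT).exists_iv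
  obtain ⟨t', ht', it'⟩ := (F.smp _ T' hT').exists_iv
  have iv := F.r2_prod hT hT' h1 ht ht' it it'
  have vN : t * t' ∈ F.N x₀ := mul_mem (F.le_N hT ht) (F.le_N hT' ht')
  have vf : ∀ z, (t * t') • z = z → z = x₀ := fun z => F.reg_fix h hT hT' h1 ht ht' it it'
  have vx : (t * t') • x₀ = x₀ := F.N_fix x₀ vN
  obtain ⟨y, hy⟩ := F.nt x₀
  obtain ⟨U, hU⟩ := F.ne y
  obtain ⟨s, hs, is⟩ := (F.smp _ U hU).exists_iv
  have Is : F.I y s := ⟨is, U, hU, hs⟩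
  by_cases ho : Odd (orderOf (t * t' * s))
  · obtain ⟨c, -, e⟩ := dih_odd iv is ho
    have k : F.I (c⁻¹ • y) (t * t') := by
      have := Is.conj c⁻¹
      rwa [← e, show c⁻¹ * (c * (t * t') * c⁻¹) * c⁻¹⁻¹ = t * t' by group] at this
    rw [← h _ _ k x₀ vx] at k
    obtain ⟨-, W, hW, vW⟩ := k
    by_cases c : W = T
    · exact h1 (F.eq_of_mem hT hT' ((mul_mem_cancel_left ht).1 (c ▸ vW)) ht' it'.1)
    · exact it.1 ((F.smp _ T hT).eq_one ht ((mul_mem_cancel_right (F.comm _ _ hT' _ hT h1.symm ht')).1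
        (F.comm _ _ hW _ hT c vW)))
  have reg : ∀ {g g' c : G} {w z : Ω}, g ∈ F.N w → (∀ u, g • u = u → u = w) → c * g * c⁻¹ = g' → g' • z = z →
      g' ∈ F.N z := fun {g g' c w z} k1 k2 k3 k4 => by
    have : c⁻¹ • z = w := k2 _ (by rw [← mul_smul, eq_comm, inv_smul_eq_iff, ← mul_smul, ← mul_assoc, k3, k4])
    rw [inv_smul_eq_iff.1 this, ← F.cj_N, ← k3]
    exact conj_mem_cj c k1
  generalize t * t' = v at iv vN vf vx ho
  obtain ⟨e, -, ie, e1, e2, ⟨c, -, k1⟩, c', -, k2⟩ := dih_even iv is ho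
  have ex : e • x₀ = x₀ := vf _ (by rw [← mul_smul, ← e1, mul_smul, vx])
  have ey : e • y = y := F.reg_cent h Is e2
  have f1 : (v * e) • x₀ = x₀ := by rw [mul_smul, ex, vx]
  have f2 : (s * e) • y = y := by rw [mul_smul, ey, Is.fix]
  exact F.reg_noD h hy
    ((mul_mem_cancel_left Is.mem_N).1 (k2.elim (reg Is.mem_N (h _ _ Is) · f2) (reg vN vf · f2)))
    ((mul_mem_cancel_left vN).1 (k1.elim (reg vN vf · f1) (reg Is.mem_N (h _ _ Is) · f1))) ie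

end Fam

end Cfsg.Agent.ON2
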