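import Mathlib
import Cfsg.Agent.ON2.Smp

/-! O'Nan II: trivial intersections of components, I. -/

set_option autoImplicit false
set_option linter.unusedSectionVars false
set_option linter.unusedVariables false

namespace Cfsg.Agent.ON2

open Cfsg Subgroup MulAction Cfsg.Agent.PLocal Cfsg.Agent.PLocal.Amb Cfsg.Agent.Trm
open scoped commutatorElement

namespace Fam

variable {G Ω : Type*} [Group G] [Finite G] [MulAction G Ω] [Finite Ω] (F : Fam G Ω)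
  (ha : F.NA) (hp : F.NP)
include ha hp

/-- `a ∈ T ⊓ cj(g,T)` and `cj(g,T) ∈ C (g x)` -/
theorem tc0 {x : Ω} {T : Subgroup G} (hT : T ∈ F.C x) {a g : G} (h1 : a ∈ T) (h2 : a ≠ 1)
    (hg : g * a = a * g) : g • x = x := by
  by_contra c
  refine h2 (mem_bot.1 ((hp x _ (Ne.symm c) T hT _ (F.eqv g x T hT)).le ⟨h1, ?_⟩))
  have := conj_mem_cj g h1
  rwa [hg, mul_inv_cancel_right] at this

omit ha hp in
theorem tca_ne {T : Subgroup G} {y : Ω} {r : G} (h1 : r ∈ T) (h2 : r • y = y) (h3 : r ≠ 1) :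
    T ⊓ stabilizer G y ≠ ⊥ := fun e => h3 (mem_bot.1 (e.le ⟨h1, h2⟩))

/-- Otherwise `U' = cj(r,U) ≠ U` is a component at `y`.  For `u ∈ U`, `d = u (r u r⁻¹)` commutes with
`r`, so fixes `x` (`tc0`); `d` acts on `U` as `u`, so `u` normalizes `R = U ⊓ G_x`.  So `R = ⊥` or `U`
(`Smp.eq_or`), against `hR`, `ha`. -/
theorem tc1 {x y : Ω} (hxy : x ≠ y) {r : G} (hr : F.I x r) (hy : r • y = y) {U : Subgroup G}
    (hU : U ∈ F.C y) (hR : U ⊓ stabilizer G x ≠ ⊥) : r ∈ 𝐍[U] := by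
  by_contra c
  obtain ⟨ir, T, hT, rT⟩ := hr
  have k : ∀ u ∈ U, ∀ v ∈ U, v * (r * u * r⁻¹) = r * u * r⁻¹ * v := fun u hu v hv =>
    F.comm' hU (F.eqv_fix hy hU) (fun e => c (cj_eq_iff.1 e.symm)) hv (conj_mem_cj r hu)
  refine ((F.smp y U hU).eq_or inf_le_left (le_normalizer_iff_cj.2 fun u hu =>
    cj_le_iff_forall.2 fun v hv => ⟨U.mul_mem (U.mul_mem hu hv.1) (U.inv_mem hu), ?_⟩)).elim hR
    fun e => ha y x hxy U hU (e.ge.trans inf_le_right)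
  have d : u * (r * u * r⁻¹) ∈ stabilizer G x := F.tc0 ha hp hT rT ir.1 (by
    calc u * (r * u * r⁻¹) * r = (r * r) * u * r * u := by rw [ir.2]; group
      _ = r * (r * u * r⁻¹ * u) := by rw [ir.inv_eq]; group
      _ = _ := by rw [k u hu u hu])
  have e : u * v * u⁻¹ = u * (r * u * r⁻¹) * v * (u * (r * u * r⁻¹))⁻¹ := by
    rw [mul_assoc u _ v, ← k u hu v hv.1]; group
  rw [e]
  exact Subgroup.mul_mem _ (Subgroup.mul_mem _ d hv.2) (Subgroup.inv_mem _ d)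

variable (he : F.Ev)
include he

/-- take `r` from `he x y`; it normalizes `U` (`tc1`), so centralizes an involution of `U`
(`exists_iv_cent'`, `Smp.exists_iv`), which fixes `x` (`tc0`) -/
theorem tc2 {x y : Ω} (hxy : x ≠ y) {U : Subgroup G} (hU : U ∈ F.C y)
    (hR : U ⊓ stabilizer G x ≠ ⊥) : ∃ f ∈ U, Iv f ∧ f • x = x := by
  obtain ⟨r, hr, hy⟩ := he x y hxy
  obtain ⟨t, ht, it⟩ := (F.smp y U hU).exists_iv
  obtain ⟨f, hf, i, c⟩ := exists_iv_cent' hr.1.p2.pgrp (zpowers_le.2 (F.tc1 ha hp hxy hr hy hU hR)) ht it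
  obtain ⟨ir, T, hT, rT⟩ := hr
  exact ⟨f, hf, i, F.tc0 ha hp hT rT ir.1 (cent_comm c (mem_zpowers r))⟩

/-- Suppose `T' = cj(p,T) ≠ T` (so `p ≠ 1`).  Let `r ∈ T` be an involution fixing `y` (`tc2`); `r`
normalizes `U` (`tc1`).  `e = r (p r p⁻¹) = (r p r⁻¹) p⁻¹ ∈ U`, `e ≠ 1` (`eq_of_mem`).  A component at `x`
other than `T, T'` centralizes `e`, so fixes `y` (`tc0`), against `ha`.  So `C x = {T, T'}` and
`cj(p,T') = T`.  Let `τ` swap `x, y`, `γ = τ p τ⁻¹`; it fixes `x, y`; every component at `y` is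
`cj(τ,T)` or `cj(τ,T')` and is moved by `γ`; `U' = cj(γ,U) ≠ U`.  `q = γ p γ⁻¹ ∈ U'` fixes `x` and
moves `T` (`cj(γ⁻¹,T) ∈ {T,T'}` is moved by `p`), so `cj(q,T) = T'`.  As before
`e' = r (q r q⁻¹) ∈ U'`.  `p ∈ U` commutes with `e'`:
`(p r p⁻¹) ((p q) r (p q)⁻¹) = r (q r q⁻¹)` with factors in `T', T` and `T, T'`; `w2` gives
`p r p⁻¹ = q r q⁻¹`, so `e = e' ∈ U ⊓ U'`: false. -/
theorem tc3 {x y : Ω} (hxy : x ≠ y) {T U : Subgroup G} (hT : T ∈ F.C x) (hU : U ∈ F.C y)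
    (hR : T ⊓ stabilizer G y ≠ ⊥) {p : G} (h1 : p ∈ U) (h2 : p • x = x) : p ∈ 𝐍[T] := by
  by_contra c
  have c' : cj(p, T) ≠ T := fun e => c (cj_eq_iff.1 e)
  have hT' := F.eqv_fix h2 hT
  obtain ⟨r, rT, ir, ry⟩ := F.tc2 ha hp he hxy.symm hT hR
  have K : ∀ V ∈ F.C y, ∀ q ∈ V, q • x = x → cj(q, T) ≠ T → r * (q * r * q⁻¹) ∈ V :=
    fun V hV q hq qx m => by
      have := mul_mem (conj_mem_of_mem_normalizer (F.tc1 ha hp hxy ⟨ir, T, hT, rT⟩ ry hV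
        (tca_ne hq qx fun e => m (by rw [e, cj_one]))) hq) (inv_mem hq)
      rw [ir.inv_eq] at this
      simpa only [mul_assoc] using this
  have e1 := K U hU p h1 h2 c'
  have e2 : r * (p * r * p⁻¹) ≠ 1 := fun e => c' (F.eq_of_mem hT' hT (conj_mem_cj p rT)
    (eq_inv_of_mul_eq_one_right e ▸ inv_mem rT) (ir.conj p).1)
  have all : ∀ W ∈ F.C x, W ≠ T → W = cj(p, T) := fun W hW n => by_contra fun n' =>
    ha x y hxy.symm W hW fun w hw => F.tc0 ha hp hU e1 e2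
      (Commute.mul_right (F.comm' hW hT n hw rT) (F.comm' hW hT' n' hw (conj_mem_cj p rT)))
  have e3 : cj(p, cj(p, T)) = T := by_contra fun n =>
    c' (cj_inj.1 (all _ (F.eqv_fix h2 hT') n))
  have mv : ∀ (g : G) (W : Subgroup G), cj(g⁻¹, W) ∈ F.C x → cj(g * p * g⁻¹, W) ≠ W :=
    fun g W hW e => by
      rw [cj_mul, cj_mul] at e
      have e' : cj(p, cj(g⁻¹, W)) = cj(g⁻¹, W) := by rw [← cj_inj (g := g), e, cj_cj_inv]
      by_cases n : cj(g⁻¹, W) = T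
      · exact c' (n ▸ e')
      · rw [all _ hW n, e3] at e'; exact c' e'.symm
  obtain ⟨τ, t1, t2⟩ := F.swap hxy
  have py : p • y = y := F.fix y U hU h1
  have g1 : (τ * p * τ⁻¹) • x = x := by rw [mul_smul, mul_smul, inv_smul_eq_iff.2 t2.symm, py, t2]
  have g2 : (τ * p * τ⁻¹) • y = y := by rw [mul_smul, mul_smul, inv_smul_eq_iff.2 t1.symm, h2, t1]
  have g3 := mv τ U (inv_smul_eq_iff.2 t1.symm ▸ F.eqv τ⁻¹ y U hU)
  generalize τ * p * τ⁻¹ = γ at g1 g2 g3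
  have g4 := inv_smul_eq_iff.2 g1.symm
  have q1 : (γ * p * γ⁻¹) • x = x := by rw [mul_smul, mul_smul, g4, h2, g1]
  have q2 := mv γ T (F.eqv_fix g4 hT)
  have q3 := conj_mem_cj γ h1
  generalize γ * p * γ⁻¹ = q at q1 q2 q3
  have hU' := F.eqv_fix g2 hU
  have e4 := K _ hU' q q3 q1 q2
  have q4 : q * r * q⁻¹ ∈ cj(p, T) := all _ (F.eqv_fix q1 hT) q2 ▸ conj_mem_cj q rT
  rcases F.w2 hT' hT hT hT' c' c'.symm (conj_mem_cj p rT) (e3 ▸ conj_mem_cj p q4) rT q4 (ir.conj p).1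
    (by rw [conj_mul, F.comm' hU hU' g3.symm h1 e4, mul_inv_cancel_right]) with h | h
  · exact c' h.1
  · exact g3 (F.eq_of_mem hU' hU (h.2.1 ▸ e4) e1 e2)

/-- if `r, p ≠ 1`, then `tc3` (both ways) puts the commutator in `T ⊓ U = ⊥` -/
theorem tc4 {x y : Ω} (hxy : x ≠ y) {T U : Subgroup G} (hT : T ∈ F.C x) (hU : U ∈ F.C y)
    {r p : G} (hr : r ∈ T) (hy : r • y = y) (h1 : p ∈ U) (h2 : p • x = x) : r * p = p * r := by
  by_cases r1 : r = 1
  · simp [r1]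
  by_cases p1 : p = 1
  · simp [p1]
  have n1 := F.tc3 ha hp he hxy hT hU (tca_ne hr hy r1) h1 h2
  have n2 := F.tc3 ha hp he hxy.symm hU hT (tca_ne h1 h2 p1) hr hy
  refine commutatorElement_eq_one_iff_mul_comm.1 (mem_bot.1 ((hp x y hxy T hT U hU).le
    (mem_inf.2 ⟨?_, ?_⟩)))
  · simpa only [commutatorElement_def, mul_assoc] using
      mul_mem hr (conj_mem_of_mem_normalizer n1 (inv_mem hr))
  · exact mul_mem (conj_mem_of_mem_normalizer n2 h1) (inv_mem h1)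

end Fam

end Cfsg.Agent.ON2
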